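import Groth.Agent.AssSch.Basic

/-!
The structure sheaf as a quasi-coherent module; reducedness criteria.
-/

universe u

open CategoryTheory AlgebraicGeometry TopologicalSpace Opposite

namespace Groth.Agent.AssSch.Structure

instance isQuasicoherent_structure (X : Scheme.{u}) : (Coh.structureModule X).IsQuasicoherent := by
  refine (QCoh.isQuasicoherent_iff_forall_isAffineOpen _).mpr fun U hU f => ?_
  let := hU.isLocalization_basicOpen f
  let := (X.presheaf.map (homOfLE (X.basicOpen_le f)).op).hom.toAlgebra
  refine ⟨fun s => ?_, fun t ht => ?_⟩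
  · obtain ⟨n, t, ht⟩ := IsLocalization.Away.surj f (show Γ(X, X.basicOpen f) from s)
    refine ⟨n, t, ?_⟩
    rw [mul_comm] at ht
    exact ht.symm
  · obtain ⟨⟨_, n, rfl⟩, hn⟩ :=
      (IsLocalization.map_eq_zero_iff (Submonoid.powers f) Γ(X, X.basicOpen f) t).mp ht
    exact ⟨n, hn⟩

end Groth.Agent.AssSch.Structure
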