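import Groth.Agent.QCoh.Basic
import Groth.Agent.PullStalk.Sky
import Groth.Prelude.Def_FDesc
import Mathlib.RingTheory.Ideal.AssociatedPrime.Localization

/-!
Stalks of quasi-coherent modules are localizations of sections; associated points on affines.
-/

universe u

open CategoryTheory AlgebraicGeometry TopologicalSpace Opposite
open Groth.Agent.QCoh Groth.Agent.PullStalk.Sky

noncomputable section

namespace Groth.Agent.AssSch.Stalk

variable {X : Scheme.{u}} (M : X.Modules) {V : X.Opens}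

lemma germM_res {W : X.Opens} (h : W ≤ V) (x : X) (hx : x ∈ W) (m : Γ(M, V)) :
    germM M W x hx (res M h m) = germM M V x (h hx) m :=
  M.presheaf.germ_res_apply (homOfLE h) x hx m

lemma germ_rres {W : X.Opens} (h : W ≤ V) (x : X) (hx : x ∈ W) (g : Γ(X, V)) :
    X.presheaf.germ W x hx (rres h g) = X.presheaf.germ V x (h hx) g :=
  X.presheaf.germ_res_apply (homOfLE h) x hx g

lemma germM_zero (x : X) (hx : x ∈ V) : germM M V x hx 0 = 0 :=
  map_zero _

lemma germM_add (x : X) (hx : x ∈ V) (a b : Γ(M, V)) :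
    germM M V x hx (a + b) = germM M V x hx a + germM M V x hx b :=
  map_add _ _ _

/-- Two sections with the same germ agree near the point. -/
lemma exists_res_eq_zero (x : X) (hx : x ∈ V) (m : Γ(M, V)) (h : germM M V x hx m = 0) :
    ∃ (W : X.Opens) (hWV : W ≤ V), x ∈ W ∧ res M hWV m = 0 := by
  obtain ⟨W, hxW, i, j, hW⟩ := M.presheaf.germ_eq x hx hx m 0 (h.trans (germM_zero M x hx).symm)
  exact ⟨W, i.le, hxW, hW.trans (map_zero _)⟩

variable (hV : IsAffineOpen V) (x : X) (hx : x ∈ V)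

/-- The prime of `Γ(X, V)` of a point of the affine open `V`. -/
abbrev primeOf : Ideal Γ(X, V) := (hV.primeIdealOf ⟨x, hx⟩).asIdeal

lemma isUnit_germ_iff (g : Γ(X, V)) :
    IsUnit (X.presheaf.germ V x hx g) ↔ g ∉ primeOf hV x hx := by
  letI : Algebra Γ(X, V) (X.presheaf.stalk x) := (X.presheaf.germ V x hx).hom.toAlgebra
  haveI : IsLocalization.AtPrime (X.presheaf.stalk x) (primeOf hV x hx) :=
    hV.isLocalization_stalk ⟨x, hx⟩
  exact IsLocalization.AtPrime.isUnit_to_map_iff (X.presheaf.stalk x) (primeOf hV x hx) g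

lemma mem_basicOpen_iff (g : Γ(X, V)) : x ∈ X.basicOpen g ↔ g ∉ primeOf hV x hx := by
  rw [← isUnit_germ_iff hV x hx, X.mem_basicOpen g x hx]

variable [hM : M.IsQuasicoherent]

include hV in
lemma exists_germ_smul_eq (t : M.presheaf.stalk x) :
    ∃ (g : Γ(X, V)) (s : Γ(M, V)), g ∉ primeOf hV x hx ∧
      X.presheaf.germ V x hx g • t = germM M V x hx s := by
  obtain ⟨W, hxW, m, rfl⟩ := exists_germM_eq M x t
  obtain ⟨g, hgW, hxg⟩ := hV.exists_basicOpen_le (⟨x, hxW⟩ : W) hx
  obtain ⟨n, s, hs⟩ := ((isQuasicoherent_iff_forall_isAffineOpen M).mp hM V hV g).surj (res M hgW m)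
  refine ⟨g ^ n, s, fun h ↦ (mem_basicOpen_iff hV x hx g).mp hxg
    ((hV.primeIdealOf ⟨x, hx⟩).isPrime.mem_of_pow_mem n h), ?_⟩
  rw [← germM_res M (X.basicOpen_le g) x hxg s, hs, germM_smul, germM_res, map_pow, map_pow,
    germ_rres]

include hV in
lemma germM_eq_zero_iff (s : Γ(M, V)) :
    germM M V x hx s = 0 ↔ ∃ g : Γ(X, V), g ∉ primeOf hV x hx ∧ g • s = 0 := by
  constructor
  · intro h
    obtain ⟨W, hWV, hxW, hs⟩ := exists_res_eq_zero M x hx s h
    obtain ⟨g, hgW, hxg⟩ := hV.exists_basicOpen_le (⟨x, hxW⟩ : W) hx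
    have : res M (X.basicOpen_le g) s = 0 := by
      rw [← res_res M hWV hgW, hs, map_zero]
    obtain ⟨n, hn⟩ := ((isQuasicoherent_iff_forall_isAffineOpen M).mp hM V hV g).eq_zero s this
    exact ⟨g ^ n, fun h ↦ (mem_basicOpen_iff hV x hx g).mp hxg
      ((hV.primeIdealOf ⟨x, hx⟩).isPrime.mem_of_pow_mem n h), hn⟩
  · rintro ⟨g, hg, hgs⟩
    have h := germM_smul M V x hx g s
    rw [hgs, germM_zero] at h
    exact ((isUnit_germ_iff hV x hx g).mpr hg).smul_eq_zero.mp h.symm

/-- The germ map on sections, as a linear map. -/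
def germLinear :
    letI : Algebra Γ(X, V) (X.presheaf.stalk x) := (X.presheaf.germ V x hx).hom.toAlgebra
    letI : Module Γ(X, V) (M.presheaf.stalk x) := Module.compHom _ (X.presheaf.germ V x hx).hom
    Γ(M, V) →ₗ[Γ(X, V)] M.presheaf.stalk x :=
  letI : Module Γ(X, V) (M.presheaf.stalk x) := Module.compHom _ (X.presheaf.germ V x hx).hom
  { toFun := germM M V x hx
    map_add' := germM_add M x hx
    map_smul' := germM_smul M V x hx }

include hV in
lemma isLocalizedModule_germLinear :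
    letI : Algebra Γ(X, V) (X.presheaf.stalk x) := (X.presheaf.germ V x hx).hom.toAlgebra
    letI : Module Γ(X, V) (M.presheaf.stalk x) := Module.compHom _ (X.presheaf.germ V x hx).hom
    IsLocalizedModule (primeOf hV x hx).primeCompl (germLinear M x hx) := by
  letI : Algebra Γ(X, V) (X.presheaf.stalk x) := (X.presheaf.germ V x hx).hom.toAlgebra
  letI : Module Γ(X, V) (M.presheaf.stalk x) := Module.compHom _ (X.presheaf.germ V x hx).hom
  refine ⟨fun g ↦ ?_, fun t ↦ ?_, fun {s₁ s₂} h ↦ ?_⟩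
  · obtain ⟨u, hu⟩ := (isUnit_germ_iff hV x hx g.1).mpr g.2
    rw [Module.End.isUnit_iff]
    have e : ∀ t : M.presheaf.stalk x,
        algebraMap Γ(X, V) (Module.End Γ(X, V) (M.presheaf.stalk x)) g.1 t =
          (u : X.presheaf.stalk x) • t := fun t ↦ congrArg (· • t) hu.symm
    refine ⟨fun a b hab ↦ ?_, fun t ↦ ⟨(↑u⁻¹ : X.presheaf.stalk x) • t, ?_⟩⟩
    · rw [e, e] at hab
      simpa [smul_smul] using congrArg ((↑u⁻¹ : X.presheaf.stalk x) • ·) hab
    · rw [e, smul_smul, Units.mul_inv, one_smul]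
  · obtain ⟨g, s, hg, h⟩ := exists_germ_smul_eq M hV x hx t
    exact ⟨⟨s, ⟨g, hg⟩⟩, h⟩
  · have h' : germM M V x hx (s₁ - s₂) = 0 := (map_sub _ _ _).trans (sub_eq_zero.mpr h)
    obtain ⟨g, hg, hgs⟩ := (germM_eq_zero_iff M hV x hx _).mp h'
    exact ⟨⟨g, hg⟩, sub_eq_zero.mp ((smul_sub _ _ _).symm.trans hgs)⟩

omit hM in
lemma isNoetherianRing_of_isAffineOpen [IsLocallyNoetherian X] (hV : IsAffineOpen V) :
    IsNoetherianRing Γ(X, V) :=
  IsLocallyNoetherian.component_noetherian ⟨V, hV⟩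

include hV in
/-- On an affine open of a locally Noetherian scheme, associated points of a quasi-coherent module
are the associated primes of its sections. -/
lemma mem_ass_iff [IsLocallyNoetherian X] :
    x ∈ _root_.AssSch.Ass M ↔ primeOf hV x hx ∈ associatedPrimes Γ(X, V) Γ(M, V) := by
  letI : Algebra Γ(X, V) (X.presheaf.stalk x) := (X.presheaf.germ V x hx).hom.toAlgebra
  letI : Module Γ(X, V) (M.presheaf.stalk x) := Module.compHom _ (X.presheaf.germ V x hx).hom
  have : IsScalarTower Γ(X, V) (X.presheaf.stalk x) (M.presheaf.stalk x) :=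
    IsScalarTower.of_algebraMap_smul fun _ _ ↦ rfl
  have : IsLocalization.AtPrime (X.presheaf.stalk x) (primeOf hV x hx) :=
    hV.isLocalization_stalk ⟨x, hx⟩
  have := isLocalizedModule_germLinear M hV x hx
  have : IsNoetherianRing Γ(X, V) := isNoetherianRing_of_isAffineOpen hV
  have key := Module.associatedPrimes.preimage_comap_associatedPrimes_eq_associatedPrimes_of_isLocalizedModule
    (primeOf hV x hx).primeCompl (R' := X.presheaf.stalk x) (germLinear M x hx)
  have hcomap := IsLocalization.AtPrime.under_maximalIdeal (X.presheaf.stalk x) (primeOf hV x hx)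
  change IsLocalRing.maximalIdeal (X.presheaf.stalk x) ∈ associatedPrimes _ _ ↔ _
  rw [← key, Set.mem_preimage]
  exact Eq.to_iff (congrArg (· ∈ associatedPrimes Γ(X, V) Γ(M, V)) hcomap)

end Groth.Agent.AssSch.Stalk
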