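import Mathlib.RingTheory.Ideal.AssociatedPrime.Basic
import Mathlib.RingTheory.Ideal.MinimalPrime.Colon
import Mathlib.RingTheory.Ideal.MinimalPrime.Noetherian
import Mathlib.RingTheory.Lasker

/-!
Associated primes: change of rings, finite families.
-/

namespace Groth.Agent.AssSch.Algebra

open Submodule

variable {A B : Type*} [CommRing A] [CommRing B] [Algebra A B]

lemma colon_restrict {M : Type*} [AddCommGroup M] [Module B M] [Module A M] [IsScalarTower A B M]
    (m : M) : (⊥ : Submodule A M).colon {m} =
      ((⊥ : Submodule B M).colon {m}).comap (algebraMap A B) := by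
  ext a
  simp [mem_colon_singleton, algebraMap_smul]

/-- A prime which is the radical of the annihilator of an element, after restriction of scalars,
is the contraction of an associated prime. -/
lemma exists_mem_associatedPrimes_comap [IsNoetherianRing B] {M : Type*} [AddCommGroup M]
    [Module B M] [Module A M] [IsScalarTower A B M] {p : Ideal A} [hp : p.IsPrime] {m : M}
    (h : p = ((⊥ : Submodule A M).colon {m}).radical) :
    ∃ q ∈ associatedPrimes B M, q.comap (algebraMap A B) = p := by
  have hfin := Ideal.finite_minimalPrimes_of_isNoetherianRing B ((⊥ : Submodule B M).colon {m})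
  rw [colon_restrict (B := B), ← Ideal.comap_radical, ← Ideal.sInf_minimalPrimes, Ideal.comap_sInf,
    ← hfin.coe_toFinset] at h
  simp only [Finset.mem_coe, ← Finset.inf_eq_iInf] at h
  obtain ⟨q, hq, hle⟩ := (Ideal.IsPrime.inf_le' hp).mp h.ge
  have hq' := hfin.mem_toFinset.mp hq
  obtain ⟨x', hx'⟩ := exists_eq_colon_of_mem_minimalPrimes (x := m) hq'
  refine ⟨q, (isAssociatedPrime_iff.mpr ⟨hq'.1.1, x', hx'⟩), le_antisymm hle ?_⟩
  exact h.le.trans (Finset.inf_le hq)

/-- Associated primes and restriction of scalars. -/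
lemma associatedPrimes_eq_image_comap [IsNoetherianRing B] (M : Type*) [AddCommGroup M] [Module B M]
    [Module A M] [IsScalarTower A B M] :
    associatedPrimes A M = Ideal.comap (algebraMap A B) '' associatedPrimes B M := by
  refine subset_antisymm ?_ ?_
  · rintro p ⟨hp, m, hm⟩
    obtain ⟨q, hq, rfl⟩ := exists_mem_associatedPrimes_comap (B := B) (hp := hp) hm
    exact ⟨q, hq, rfl⟩
  · rintro _ ⟨q, ⟨hq, m, hm⟩, rfl⟩
    refine ⟨hq.comap _, m, ?_⟩
    rw [colon_restrict (A := A) (B := B) m, hm, Ideal.comap_radical]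

/-- An associated prime of a module embedded in a finite product is associated to a factor. -/
lemma exists_colon_eq {M ι : Type*} [AddCommGroup M] [Module A M] [Fintype ι]
    {N : ι → Type*} [∀ i, AddCommGroup (N i)] [∀ i, Module A (N i)] (φ : ∀ i, M →ₗ[A] N i)
    (hφ : ∀ m, (∀ i, φ i m = 0) → m = 0) {p : Ideal A} [hp : p.IsPrime] {m : M}
    (h : p = ((⊥ : Submodule A M).colon {m}).radical) :
    ∃ i, p = ((⊥ : Submodule A (N i)).colon {φ i m}).radical := by
  classical
  have he : (⊥ : Submodule A M).colon {m} =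
      Finset.univ.inf fun i ↦ (⊥ : Submodule A (N i)).colon {φ i m} := by
    ext a
    simp only [mem_colon_singleton, mem_bot, Submodule.mem_finsetInf, Finset.mem_univ, true_imp_iff]
    exact ⟨fun h i ↦ by rw [← map_smul, h, map_zero], fun h ↦ hφ _ fun i ↦ by rw [map_smul, h i]⟩
  have h' : p = Finset.univ.inf fun i ↦ ((⊥ : Submodule A (N i)).colon {φ i m}).radical := by
    rw [h, he]
    exact map_finset_inf (⟨⟨Ideal.radical, Ideal.radical_inf⟩, Ideal.radical_top A⟩ :
      InfTopHom (Ideal A) (Ideal A)) _ _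
  obtain ⟨i, -, hle⟩ := (Ideal.IsPrime.inf_le' hp).mp h'.ge
  exact ⟨i, le_antisymm (h'.le.trans (Finset.inf_le (Finset.mem_univ i))) hle⟩

/-- A prime containing the annihilator of an element contains an associated prime. -/
lemma exists_associatedPrime_le [IsNoetherianRing A] {M : Type*} [AddCommGroup M] [Module A M]
    {q : Ideal A} [q.IsPrime] {m : M} (h : (⊥ : Submodule A M).colon {m} ≤ q) :
    ∃ p ∈ associatedPrimes A M, p ≤ q := by
  obtain ⟨p, hp, hpq⟩ := Ideal.exists_minimalPrimes_le h
  obtain ⟨x', hx'⟩ := exists_eq_colon_of_mem_minimalPrimes (x := m) hp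
  exact ⟨p, isAssociatedPrime_iff.mpr ⟨hp.1.1, x', hx'⟩, hpq⟩

end Groth.Agent.AssSch.Algebra
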