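import Groth.Agent.AssSch.Stalk
import Groth.Agent.AssSch.Algebra
import Groth.Agent.QCoh.Exact
import Groth.Agent.QCoh.Qcqs
import Groth.Agent.QCoh.Pullback

/-!
Basic properties of associated points of quasi-coherent modules.
-/

universe u

open CategoryTheory AlgebraicGeometry TopologicalSpace Opposite
open Groth.Agent.QCoh Groth.Agent.PullStalk.Sky Groth.Agent.AssSch.Stalk

noncomputable section

namespace Groth.Agent.AssSch.Basic

variable {X Y : Scheme.{u}}

section Points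

variable {V : X.Opens} (hV : IsAffineOpen V)

include hV in
lemma exists_point (q : Ideal Γ(X, V)) [hq : q.IsPrime] :
    ∃ (x : X) (hx : x ∈ V), primeOf hV x hx = q := by
  obtain ⟨⟨x, hx⟩, h⟩ := hV.isoSpec.hom.surjective (⟨q, hq⟩ : PrimeSpectrum Γ(X, V))
  exact ⟨x, hx, congrArg PrimeSpectrum.asIdeal h⟩

include hV in
lemma primeOf_le_iff (x y : X) (hx : x ∈ V) (hy : y ∈ V) :
    primeOf hV x hx ≤ primeOf hV y hy ↔ x ⤳ y := by
  have h1 : primeOf hV x hx ≤ primeOf hV y hy ↔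
      hV.primeIdealOf ⟨x, hx⟩ ⤳ hV.primeIdealOf ⟨y, hy⟩ := PrimeSpectrum.le_iff_specializes _ _
  rw [h1]
  exact (hV.isoSpec.hom.homeomorph.isInducing.specializes_iff (x := (⟨x, hx⟩ : V))
    (y := (⟨y, hy⟩ : V))).trans (subtype_specializes_iff _ _)

include hV in
lemma eq_of_primeOf_eq {x y : X} (hx : x ∈ V) (hy : y ∈ V)
    (h : primeOf hV x hx = primeOf hV y hy) : x = y := by
  have := hV.isoSpec.hom.homeomorph.injective
    (a₁ := (⟨x, hx⟩ : V)) (a₂ := (⟨y, hy⟩ : V)) (PrimeSpectrum.ext h)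
  exact congrArg Subtype.val this

end Points

variable [IsLocallyNoetherian X] (M : X.Modules) [M.IsQuasicoherent]

omit [IsLocallyNoetherian X] in
lemma exists_affine (x : X) : ∃ V : X.Opens, IsAffineOpen V ∧ x ∈ V := by
  obtain ⟨V, hV, hx, -⟩ := exists_isAffineOpen_mem_and_subset (U := (⊤ : X.Opens)) (x := x) trivial
  exact ⟨V, hV, hx⟩

omit [IsLocallyNoetherian X] [M.IsQuasicoherent] in
/-- The stalk at an associated point is nontrivial. -/
lemma nontrivial_of_mem_ass {x : X} (hx : x ∈ _root_.AssSch.Ass M) :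
    Nontrivial (M.presheaf.stalk x) := by
  by_contra h
  rw [not_nontrivial_iff_subsingleton] at h
  exact not_isAssociatedPrime_of_subsingleton hx

/-- A point of the support is a specialization of an associated point. -/
lemma exists_mem_ass_specializes {y : X} (hy : Nontrivial (M.presheaf.stalk y)) :
    ∃ z ∈ _root_.AssSch.Ass M, z ⤳ y := by
  obtain ⟨V, hV, hyV⟩ := exists_affine y
  obtain ⟨t, ht⟩ := exists_ne (0 : M.presheaf.stalk y)
  obtain ⟨g, s, hg, hgs⟩ := exists_germ_smul_eq M hV y hyV t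
  have hne : germM M V y hyV s ≠ 0 := fun h ↦
    ht (((isUnit_germ_iff hV y hyV g).mpr hg).smul_eq_zero.mp (hgs.trans h))
  have hle : (⊥ : Submodule Γ(X, V) Γ(M, V)).colon {s} ≤ primeOf hV y hyV := by
    intro a ha
    by_contra h
    rw [Submodule.mem_colon_singleton, Submodule.mem_bot] at ha
    exact hne ((germM_eq_zero_iff M hV y hyV s).mpr ⟨a, h, ha⟩)
  have := isNoetherianRing_of_isAffineOpen hV
  obtain ⟨p, hp, hpq⟩ := Algebra.exists_associatedPrime_le hle
  have := hp.1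
  obtain ⟨z, hz, rfl⟩ := exists_point hV p
  exact ⟨z, (mem_ass_iff M hV z hz).mpr hp, (primeOf_le_iff hV z y hz hyV).mp hpq⟩

/-- A section vanishes if its germs at all associated points vanish. -/
lemma eq_zero_of_forall_germ_eq_zero {V : X.Opens} (hV : IsAffineOpen V) (s : Γ(M, V))
    (h : ∀ (x : X) (hx : x ∈ V), x ∈ _root_.AssSch.Ass M → germM M V x hx s = 0) : s = 0 := by
  by_contra hs
  have := isNoetherianRing_of_isAffineOpen hV
  obtain ⟨P, hP, hle⟩ := exists_le_isAssociatedPrime_of_isNoetherianRing Γ(X, V) s hs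
  have := hP.1
  obtain ⟨z, hz, rfl⟩ := exists_point hV P
  obtain ⟨g, hg, hgs⟩ := (germM_eq_zero_iff M hV z hz s).mp (h z hz ((mem_ass_iff M hV z hz).mpr hP))
  exact hg (hle (by rw [Submodule.mem_colon_singleton, Submodule.mem_bot]; exact hgs))

omit [IsLocallyNoetherian X] [M.IsQuasicoherent] in
/-- A section vanishes if all germs vanish. -/
lemma eq_zero_of_germ_eq_zero {W : X.Opens} (s : Γ(M, W))
    (h : ∀ (x : X) (hx : x ∈ W), germM M W x hx s = 0) : s = 0 := by
  choose U hUW hxU hU using fun x : W ↦ exists_res_eq_zero M x.1 x.2 s (h x.1 x.2)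
  exact eq_zero_of_locally_eq_zero M hUW (fun x hx ↦ Opens.mem_iSup.mpr ⟨⟨x, hx⟩, hxU _⟩) s hU

/-! ### Associated points of direct images -/

section Push

variable [IsLocallyNoetherian Y] (f : X ⟶ Y)

/-- Over an affine open with affine preimage, associated points of the direct image are images. -/
lemma mem_ass_push_iff_of_isAffineOpen [((Scheme.Modules.pushforward f).obj M).IsQuasicoherent]
    {V : Y.Opens} (hV : IsAffineOpen V) (hf : IsAffineOpen (f ⁻¹ᵁ V)) (y : Y) (hy : y ∈ V) :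
    y ∈ _root_.AssSch.Ass ((Coh.push f).obj M) ↔ y ∈ f.base '' _root_.AssSch.Ass M := by
  let := (f.app V).hom.toAlgebra
  let : Module Γ(Y, V) Γ(M, f ⁻¹ᵁ V) := Module.compHom _ (f.app V).hom
  have : IsScalarTower Γ(Y, V) Γ(X, f ⁻¹ᵁ V) Γ(M, f ⁻¹ᵁ V) :=
    IsScalarTower.of_algebraMap_smul fun _ _ ↦ rfl
  have := isNoetherianRing_of_isAffineOpen hf
  have hmem : y ∈ _root_.AssSch.Ass ((Coh.push f).obj M) ↔
      primeOf hV y hy ∈ associatedPrimes Γ(Y, V) Γ(M, f ⁻¹ᵁ V) := by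
    rw [mem_ass_iff ((Scheme.Modules.pushforward f).obj M) hV y hy]
    rfl
  rw [hmem, Algebra.associatedPrimes_eq_image_comap (B := Γ(X, f ⁻¹ᵁ V))]
  have hcomap : ∀ (x : X) (hx : x ∈ f ⁻¹ᵁ V),
      (primeOf hf x hx).comap (algebraMap Γ(Y, V) Γ(X, f ⁻¹ᵁ V)) = primeOf hV (f x) hx := by
    intro x hx
    have := congrArg PrimeSpectrum.asIdeal
      (IsAffineOpen.comap_primeIdealOf_appLE V hV (f ⁻¹ᵁ V) hf le_rfl hx)
    rw [Scheme.Hom.appLE_eq_app] at this
    exact this
  constructor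
  · rintro ⟨q, hq, hqp⟩
    have := hq.1
    obtain ⟨x, hx, rfl⟩ := exists_point hf q
    rw [hcomap] at hqp
    exact ⟨x, (mem_ass_iff M hf x hx).mpr hq, eq_of_primeOf_eq hV hx hy hqp⟩
  · rintro ⟨x, hx, rfl⟩
    exact ⟨primeOf hf x hy, (mem_ass_iff M hf x hy).mp hx, hcomap x hy⟩

/-- Associated points of a qcqs direct image lie in the image. -/
lemma ass_push_subset [QuasiCompact f] [QuasiSeparated f] :
    _root_.AssSch.Ass ((Coh.push f).obj M) ⊆ f.base '' _root_.AssSch.Ass M := by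
  have := isQuasicoherent_pushforward f M
  intro y hy
  obtain ⟨V, hV, hyV⟩ := exists_affine y
  obtain ⟨S, hSfin, hS⟩ := (isCompact_iff_finite_and_eq_biUnion_affineOpens (U := f ⁻¹ᵁ V)).mp
    (QuasiCompact.isCompact_preimage (f := f) _ V.2 hV.isCompact)
  let := (f.app V).hom.toAlgebra
  have hle : ∀ U : S, (U.1 : X.Opens) ≤ f ⁻¹ᵁ V := fun U ↦
    (le_iSup₂ (f := fun i (_ : i ∈ S) ↦ (i : X.Opens)) U.1 U.2).trans hS.ge
  let : ∀ U : S, Module Γ(Y, V) Γ(M, (U.1 : X.Opens)) := fun U ↦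
    Module.compHom _ ((rres (hle U)).hom.comp (f.app V).hom)
  let φ : ∀ U : S, Γ((Scheme.Modules.pushforward f).obj M, V) →ₗ[Γ(Y, V)] Γ(M, (U.1 : X.Opens)) :=
    fun U ↦
    { toFun := fun s ↦ res M (hle U) (unPush f M s)
      map_add' := fun a b ↦ map_add _ _ _
      map_smul' := fun r a ↦ by rw [push_smul, res_smul]; rfl }
  have : Fintype S := hSfin.fintype
  have hφ : ∀ s, (∀ U, φ U s = 0) → s = 0 := fun s hs ↦
    eq_zero_of_locally_eq_zero M hle (hS.le.trans (iSup₂_le fun i hi ↦ le_iSup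
      (fun U : S ↦ (U.1 : X.Opens)) ⟨i, hi⟩)) (unPush f M s) hs
  have hmem := (mem_ass_iff ((Scheme.Modules.pushforward f).obj M) hV y hyV).mp hy
  obtain ⟨hp, s, hs⟩ := hmem
  obtain ⟨U, hU⟩ := Algebra.exists_colon_eq φ hφ (hp := hp) hs
  let : Algebra Γ(Y, V) Γ(X, (U.1 : X.Opens)) := ((rres (hle U)).hom.comp (f.app V).hom).toAlgebra
  have : IsScalarTower Γ(Y, V) Γ(X, (U.1 : X.Opens)) Γ(M, (U.1 : X.Opens)) :=
    IsScalarTower.of_algebraMap_smul fun _ _ ↦ rfl
  have := isNoetherianRing_of_isAffineOpen U.1.2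
  obtain ⟨q, hq, hqp⟩ := Algebra.exists_mem_associatedPrimes_comap (B := Γ(X, (U.1 : X.Opens)))
    (hp := hp) hU
  have := hq.1
  obtain ⟨x, hx, rfl⟩ := exists_point U.1.2 q
  refine ⟨x, (mem_ass_iff M U.1.2 x hx).mpr hq, eq_of_primeOf_eq hV (hle U hx) hyV ?_⟩
  rw [← hqp]
  exact (congrArg PrimeSpectrum.asIdeal
    (IsAffineOpen.comap_primeIdealOf_appLE V hV U.1.1 U.1.2 (hle U) hx)).symm

/-- Associated points of an affine direct image are exactly the images. -/
lemma ass_push_eq [IsAffineHom f] :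
    _root_.AssSch.Ass ((Coh.push f).obj M) = f.base '' _root_.AssSch.Ass M := by
  ext y
  obtain ⟨V, hV, hy⟩ := exists_affine y
  exact mem_ass_push_iff_of_isAffineOpen M f hV (hV.preimage f) y hy

end Push

end Groth.Agent.AssSch.Basic
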