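import Groth.Agent.Wt.FibNoeth
import Mathlib.RingTheory.RingHom.EssFiniteType

/-!
Fibres of morphisms from locally Noetherian schemes are locally Noetherian.
-/

universe u

open CategoryTheory CategoryTheory.Limits AlgebraicGeometry

namespace Groth.Agent.AssSch.FibreNoeth

/-- A fibre of a morphism from a locally Noetherian scheme is locally Noetherian. -/
theorem isLocallyNoetherian_fiber {X S : Scheme.{u}} [IsLocallyNoetherian X] (f : X ⟶ S) (s : S) :
    IsLocallyNoetherian (f.fiber s) := by
  obtain ⟨V, hV, hsV, -⟩ :=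
    exists_isAffineOpen_mem_and_subset (U := (⊤ : S.Opens)) (x := s) trivial
  let φ : Γ(S, V) ⟶ S.residueField s := S.presheaf.germ V s hsV ≫ S.residue s
  have hφ : φ.hom.EssFiniteType := by
    let := (S.presheaf.germ V s hsV).hom.toAlgebra
    have := hV.isLocalization_stalk ⟨s, hsV⟩
    rw [CommRingCat.hom_comp]
    refine RingHom.EssFiniteType.comp ?_ (RingHom.FiniteType.essFiniteType
      (RingHom.FiniteType.of_surjective _ (S.residue_surjective s)))
    exact Algebra.EssFiniteType.of_isLocalization (R := Γ(S, V)) (S.presheaf.stalk s)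
      (hV.primeIdealOf ⟨s, hsV⟩).asIdeal.primeCompl
  have hfac : S.fromSpecResidueField s = Spec.map φ ≫ hV.fromSpec := by
    rw [Scheme.fromSpecResidueField, ← hV.fromSpecStalk_eq_fromSpecStalk hsV,
      IsAffineOpen.fromSpecStalk, Spec.map_comp, Category.assoc]
  have h1 : IsLocallyNoetherian (pullback f hV.fromSpec) :=
    isLocallyNoetherian_of_isOpenImmersion (pullback.fst f hV.fromSpec)
  have h2 : IsLocallyNoetherian (pullback (pullback.snd f hV.fromSpec) (Spec.map φ)) :=
    Wt.FibNoeth.isLocallyNoetherian_baseChange φ hφ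
      (IsPullback.of_hasPullback (pullback.snd f hV.fromSpec) (Spec.map φ))
  have h3 := (IsPullback.of_hasPullback (pullback.snd f hV.fromSpec) (Spec.map φ)).flip.paste_vert
    (IsPullback.of_hasPullback f hV.fromSpec).flip |>.flip
  exact isLocallyNoetherian_of_isOpenImmersion
    (((pullback.congrHom rfl hfac) ≪≫ h3.isoPullback.symm : f.fiber s ≅ _).hom)

end Groth.Agent.AssSch.FibreNoeth
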