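import Groth.Agent.AssSch.Basic
import Groth.Agent.CohDev.Key
import Groth.Agent.FDesc.QuasiFlat
import Mathlib.RingTheory.Filtration

/-!
Coherent quotients with a single associated point (primary quotients).
-/

universe u

open CategoryTheory Limits AlgebraicGeometry TopologicalSpace Opposite
open Groth.Agent.QCoh Groth.Agent.PullStalk.Sky Groth.Agent.PullStalk.Exact
open Groth.Agent.AssSch.Stalk Groth.Agent.AssSch.Basic

noncomputable section

namespace Groth.Agent.AssSch.Quot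

variable {X : Scheme.{u}} [IsLocallyNoetherian X]

/-- An associated point is a point with a nonzero stalk element killed by the maximal ideal. -/
lemma mem_ass_iff_exists (M : X.Modules) (x : X) :
    x ∈ _root_.AssSch.Ass M ↔ CohDev.Assoc M x := by
  constructor
  · intro h
    obtain ⟨hp, t, ht⟩ := isAssociatedPrime_iff.mp h
    refine ⟨t, fun h0 ↦ hp.ne_top ?_, fun r hr ↦ ?_⟩
    · rw [ht, h0, Ideal.eq_top_iff_one, Submodule.mem_colon_singleton, smul_zero]
      exact zero_mem _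
    · rw [ht, Submodule.mem_colon_singleton, Submodule.mem_bot] at hr
      exact hr
  · rintro ⟨t, ht, hm⟩
    refine isAssociatedPrime_iff.mpr ⟨inferInstance, t, ?_⟩
    refine (IsLocalRing.maximalIdeal.isMaximal _).eq_of_le ?_ fun r hr ↦ ?_
    · rw [Ne, Ideal.eq_top_iff_one, Submodule.mem_colon_singleton, Submodule.mem_bot, one_smul]
      exact ht
    · rw [Submodule.mem_colon_singleton, Submodule.mem_bot]
      exact hm r hr

lemma ass_subset_of_mono {A B : X.Modules} (f : A ⟶ B) [Mono f] :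
    _root_.AssSch.Ass A ⊆ _root_.AssSch.Ass B := fun x hx ↦
  (mem_ass_iff_exists B x).mpr (CohDev.assoc_of_mono f ((mem_ass_iff_exists A x).mp hx))

omit [IsLocallyNoetherian X] in
/-- A section killed by a morphism comes from the kernel. -/
lemma exists_kernel_app {A B : X.Modules} (q : A ⟶ B) {U : X.Opens} {s : Γ(A, U)}
    (h : q.app U s = 0) : ∃ w : Γ(kernel q, U), (kernel.ι q).app U w = s := by
  let K := ShortComplex.mk (kernel.ι q) q (kernel.condition _)
  have hK : K.Exact := K.exact_of_f_is_kernel (kernelIsKernel _)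
  have : Mono K.f := inferInstanceAs (Mono (kernel.ι q))
  exact exists_app_eq_of_app_eq_zero K hK U s h

/-- Morphisms with a jointly small kernel are jointly injective on sections. -/
lemma eq_zero_of_forall_app_eq_zero {M : X.Modules} [M.IsQuasicoherent] {ι : Type*}
    {G : ι → X.Modules} (q : ∀ i, M ⟶ G i)
    (h : ∀ x ∈ _root_.AssSch.Ass M, ∃ i, x ∉ _root_.AssSch.Ass (kernel (q i)))
    {U : X.Opens} (s : Γ(M, U)) (hs : ∀ i, (q i).app U s = 0) : s = 0 := by
  refine eq_zero_of_germ_eq_zero M s fun y hy ↦ ?_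
  obtain ⟨V, hV, hyV, hVU⟩ := exists_isAffineOpen_mem_and_subset hy
  have hVU' : V ≤ U := hVU
  rw [← germM_res M hVU' y hyV s]
  by_contra hne
  set s' := res M hVU' s
  have hs' : s' ≠ 0 := fun h0 ↦ hne (by rw [h0]; exact germM_zero M y hyV)
  have := isNoetherianRing_of_isAffineOpen hV
  let N : Submodule Γ(X, V) Γ(M, V) := Submodule.span Γ(X, V) {s'}
  have : Nontrivial N := ⟨⟨⟨s', Submodule.mem_span_singleton_self s'⟩, 0, fun e ↦
    hs' (congrArg Subtype.val e)⟩⟩
  obtain ⟨P, hP⟩ := associatedPrimes.nonempty Γ(X, V) N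
  obtain ⟨hPp, ⟨u, hu⟩, hPu⟩ := isAssociatedPrime_iff.mp hP
  obtain ⟨z, hz, hzP⟩ := exists_point hV P
  obtain ⟨a, rfl⟩ := Submodule.mem_span_singleton.mp hu
  have hmem : ∀ b, b ∈ P ↔ b • a • s' = 0 := fun b ↦ by
    rw [hPu, Submodule.mem_colon_singleton, Submodule.mem_bot, Subtype.ext_iff]
    rfl
  set t := germM M V z hz (a • s') with ht
  have ht0 : t ≠ 0 := fun h0 ↦ by
    obtain ⟨g, hg, hgs⟩ := (germM_eq_zero_iff M hV z hz _).mp h0
    exact hg (hzP.symm ▸ (hmem g).mpr hgs)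
  have htm : ∀ r ∈ IsLocalRing.maximalIdeal (X.presheaf.stalk z), r • t = 0 := fun r hr ↦ by
    refine CohDev.smul_eq_zero_of_prime hV hz (fun b hb ↦ ?_) hr
    rw [ht, ← germM_smul, (hmem b).mp (hzP ▸ hb), germM_zero]
  obtain ⟨i, hi⟩ := h z ((mem_ass_iff_exists M z).mpr ⟨t, ht0, htm⟩)
  obtain ⟨w, hw⟩ : ∃ w : Γ(kernel (q i), V), (kernel.ι (q i)).app V w = a • s' := by
    refine exists_kernel_app (q i) ?_
    rw [Scheme.Modules.Hom.app_smul, app_res, hs i, map_zero, smul_zero]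
  refine hi ((mem_ass_iff_exists _ z).mpr ⟨germM _ V z hz w, fun h0 ↦ ht0 ?_, fun r hr ↦ ?_⟩)
  · rw [ht, ← hw, ← stalkLin_germ, h0, map_zero]
  · apply CohDev.stalk_injective (kernel.ι (q i)) z
    rw [map_smul, stalkLin_germ, hw, map_zero]
    exact htm r hr

/-- Morphisms with a jointly small kernel are jointly monic. -/
lemma jointly_mono {M : X.Modules} [M.IsQuasicoherent] {ι : Type*}
    {G : ι → X.Modules} (q : ∀ i, M ⟶ G i)
    (h : ∀ x ∈ _root_.AssSch.Ass M, ∃ i, x ∉ _root_.AssSch.Ass (kernel (q i)))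
    (T : X.Modules) (a b : T ⟶ M) (hab : ∀ i, a ≫ q i = b ≫ q i) : a = b := by
  ext U σ
  refine sub_eq_zero.mp (eq_zero_of_forall_app_eq_zero q h _ fun i ↦ ?_)
  rw [map_sub, sub_eq_zero, ← ConcreteCategory.comp_apply, ← ConcreteCategory.comp_apply,
    ← Scheme.Modules.Hom.comp_app, ← Scheme.Modules.Hom.comp_app, hab i]

omit [IsLocallyNoetherian X] in
/-- A torsion skyscraper is quasi-coherent. -/
lemma isQuasicoherent_sky (x : X) (N : Type u) [AddCommGroup N] [Module (X.presheaf.stalk x) N]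
    (hN : ∀ r ∈ IsLocalRing.maximalIdeal (X.presheaf.stalk x), ∀ t : N, ∃ n : ℕ, r ^ n • t = 0) :
    (sky x N).IsQuasicoherent := by
  classical
  rw [isQuasicoherent_iff_forall_isAffineOpen]
  intro V hV f
  by_cases hxf : x ∈ X.basicOpen f
  · refine ⟨fun s ↦ ⟨0, fun _ ↦ (show PLift (x ∈ X.basicOpen f) → N from s) ⟨hxf⟩, ?_⟩,
      fun t ht ↦ ⟨0, ?_⟩⟩
    · rw [pow_zero, one_smul]
      funext h
      rfl
    · rw [pow_zero, one_smul]
      funext h
      exact congr_fun (show (show PLift (x ∈ X.basicOpen f) → N from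
        res (sky x N) (X.basicOpen_le f) t) = 0 from ht) ⟨hxf⟩
  · refine ⟨fun s ↦ ⟨0, 0, ?_⟩, fun t _ ↦ ?_⟩
    · funext h
      exact absurd h.down hxf
    · by_cases hxV : x ∈ V
      · have hm : X.presheaf.germ V x hxV f ∈ IsLocalRing.maximalIdeal (X.presheaf.stalk x) :=
          fun hu ↦ hxf ((X.mem_basicOpen f x hxV).mpr hu)
        obtain ⟨n, hn⟩ := hN _ hm ((show PLift (x ∈ V) → N from t) ⟨hxV⟩)
        refine ⟨n, ?_⟩
        funext h
        refine (skyModule_smul_apply x N V (f ^ n) _ h).trans ?_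
        rw [map_pow]
        exact hn
      · exact ⟨0, funext fun h ↦ absurd h.down hxV⟩

/-- A torsion skyscraper has at most one associated point. -/
lemma ass_sky_subset (x : X) (N : Type u) [AddCommGroup N] [Module (X.presheaf.stalk x) N]
    (hN : ∀ r ∈ IsLocalRing.maximalIdeal (X.presheaf.stalk x), ∀ t : N, ∃ n : ℕ, r ^ n • t = 0) :
    _root_.AssSch.Ass (sky x N) ⊆ {x} := by
  intro y hy
  have := isQuasicoherent_sky x N hN
  obtain ⟨V, hV, hyV⟩ := exists_affine y
  have := isNoetherianRing_of_isAffineOpen hV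
  obtain ⟨hp, t, ht⟩ := isAssociatedPrime_iff.mp ((mem_ass_iff (sky x N) hV y hyV).mp hy)
  have hmem : ∀ b, b ∈ primeOf hV y hyV ↔ b • t = 0 := fun b ↦ by
    rw [ht, Submodule.mem_colon_singleton, Submodule.mem_bot]
  have ht0 : t ≠ 0 := fun h0 ↦ hp.ne_top
    ((Ideal.eq_top_iff_one _).mpr ((hmem 1).mpr (by rw [h0, smul_zero])))
  have hxV : x ∈ V := by
    by_contra hxV
    exact ht0 (funext fun h ↦ absurd h.down hxV)
  set v : N := (show PLift (x ∈ V) → N from t) ⟨hxV⟩
  have hsm : ∀ b, b • t = 0 ↔ X.presheaf.germ V x hxV b • v = 0 := fun b ↦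
    ⟨fun h ↦ congr_fun (show (show PLift (x ∈ V) → N from b • t) = 0 from h) ⟨hxV⟩,
      fun h ↦ funext fun _ ↦ h⟩
  refine eq_of_primeOf_eq hV hyV hxV (le_antisymm (fun b hb ↦ ?_) fun b hb ↦ ?_)
  · by_contra hbx
    refine ht0 (funext fun h ↦ ?_)
    exact ((isUnit_germ_iff hV x hxV b).mpr hbx).smul_eq_zero.mp ((hsm b).mp ((hmem b).mp hb))
  · have hm : X.presheaf.germ V x hxV b ∈ IsLocalRing.maximalIdeal (X.presheaf.stalk x) :=
      fun hu ↦ (isUnit_germ_iff hV x hxV b).mp hu hb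
    obtain ⟨n, hn⟩ := hN _ hm v
    refine hp.mem_of_pow_mem n ((hmem _).mpr ((hsm _).mpr ?_))
    rw [map_pow]
    exact hn

/-- Artin–Rees: deep enough elements are not killed by the maximal ideal. -/
lemma exists_pow_socle {R : Type*} [CommRing R] [IsNoetherianRing R] (I : Ideal R) (M : Type*)
    [AddCommGroup M] [Module R M] [Module.Finite R M] :
    ∃ n : ℕ, ∀ t ∈ (I ^ n • ⊤ : Submodule R M), (∀ r ∈ I, r • t = 0) → t = 0 := by
  let S : Submodule R M :=
    { carrier := {t | ∀ r ∈ I, r • t = 0}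
      zero_mem' := fun _ _ ↦ smul_zero _
      add_mem' := fun ha hb r hr ↦ by rw [smul_add, ha r hr, hb r hr, add_zero]
      smul_mem' := fun c a ha r hr ↦ by rw [smul_comm, ha r hr, smul_zero] }
  obtain ⟨k, hk⟩ := Ideal.exists_pow_inf_eq_pow_smul I S
  refine ⟨k + 1, fun t ht hs ↦ ?_⟩
  have h := (hk (k + 1) (by lia)).le ⟨ht, hs⟩
  rw [show k + 1 - k = 1 by lia, pow_one] at h
  refine Submodule.smul_induction_on h (fun r hr m hm ↦ hm.2 r hr) fun a b ha hb ↦ ?_
  rw [ha, hb, add_zero]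

/-- At every associated point there is a coherent quotient having that point as only associated
point, the point not being associated to the kernel. -/
theorem exists_primary_quotient (M : X.Modules) (hM : Coh.IsCoh M) {x : X}
    (hx : x ∈ _root_.AssSch.Ass M) :
    ∃ (G : X.Modules) (q : M ⟶ G), Epi q ∧ Coh.IsCoh G ∧ _root_.AssSch.Ass G = {x} ∧
      x ∉ _root_.AssSch.Ass (kernel q) := by
  have : M.IsQuasicoherent := hM.1
  have : Module.Finite (X.presheaf.stalk x) (M.presheaf.stalk x) :=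
    FDesc.QuasiFlat.finite_stalk_of_isCoh M hM x
  obtain ⟨n, hn⟩ := exists_pow_socle (IsLocalRing.maximalIdeal (X.presheaf.stalk x))
    (M.presheaf.stalk x)
  let P : Submodule (X.presheaf.stalk x) (M.presheaf.stalk x) :=
    IsLocalRing.maximalIdeal (X.presheaf.stalk x) ^ n • ⊤
  have hN : ∀ r ∈ IsLocalRing.maximalIdeal (X.presheaf.stalk x), ∀ t : (M.presheaf.stalk x) ⧸ P,
      ∃ n : ℕ, r ^ n • t = 0 := fun r hr t ↦ by
    obtain ⟨m, rfl⟩ := Submodule.Quotient.mk_surjective P t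
    refine ⟨n, (Submodule.Quotient.mk_eq_zero P).mpr ?_⟩
    exact Submodule.smul_mem_smul (Ideal.pow_mem_pow hr n) trivial
  let τ : M ⟶ sky x (M.presheaf.stalk x ⧸ P) := toSky P.mkQ
  have hq : (sky x (M.presheaf.stalk x ⧸ P)).IsQuasicoherent := isQuasicoherent_sky x _ hN
  let q := Abelian.factorThruImage τ
  have hι : q ≫ Abelian.image.ι τ = τ := Abelian.image.fac τ
  have hG : Coh.IsCoh (Abelian.image τ) := CohDev.isCoh_image τ hM hq
  have : (Abelian.image τ).IsQuasicoherent := hG.1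
  have hker : x ∉ _root_.AssSch.Ass (kernel q) := fun h ↦ by
    obtain ⟨k, hk0, hkm⟩ := (mem_ass_iff_exists _ x).mp h
    refine hk0 (CohDev.stalk_injective (kernel.ι q) x ?_)
    rw [map_zero]
    refine hn _ ?_ fun r hr ↦ by rw [← map_smul, hkm r hr, map_zero]
    obtain ⟨W, hxW, w, rfl⟩ := exists_germM_eq _ x k
    rw [stalkLin_germ]
    refine (Submodule.Quotient.mk_eq_zero P).mp ?_
    refine (toSky_app P.mkQ W ((kernel.ι q).app W w) ⟨hxW⟩).symm.trans ?_
    have h0 : (kernel.ι q ≫ τ).app W w = 0 := by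
      rw [show kernel.ι q ≫ τ = 0 from (congrArg (kernel.ι q ≫ ·) hι.symm).trans
        (by rw [← Category.assoc, kernel.condition, zero_comp])]
      rfl
    exact congr_fun h0 ⟨hxW⟩
  have hsub : _root_.AssSch.Ass (Abelian.image τ) ⊆ {x} :=
    (ass_subset_of_mono (Abelian.image.ι τ)).trans (ass_sky_subset x _ hN)
  refine ⟨_, q, inferInstance, hG, subset_antisymm hsub ?_, hker⟩
  rintro y (hyx : y = x)
  subst y
  suffices Nontrivial ((Abelian.image τ).presheaf.stalk x) by
    obtain ⟨z, hz, -⟩ := exists_mem_ass_specializes (Abelian.image τ) this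
    exact hsub hz ▸ hz
  by_contra hc
  rw [not_nontrivial_iff_subsingleton] at hc
  obtain ⟨t, ht0, htm⟩ := (mem_ass_iff_exists M x).mp hx
  obtain ⟨W, hxW, m, rfl⟩ := exists_germM_eq M x t
  have h0 : germM (Abelian.image τ) W x hxW (q.app W m) = 0 := Subsingleton.elim _ _
  obtain ⟨W', hle, hxW', hz⟩ := exists_res_eq_zero _ x hxW _ h0
  rw [← app_res] at hz
  obtain ⟨w, hw⟩ := exists_kernel_app q hz
  refine hker ((mem_ass_iff_exists _ x).mpr ⟨germM _ W' x hxW' w, fun e ↦ ht0 ?_, fun r hr ↦ ?_⟩)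
  · rw [← germM_res M hle x hxW' m, ← hw, ← stalkLin_germ, e, map_zero]
  · apply CohDev.stalk_injective (kernel.ι q) x
    rw [map_smul, stalkLin_germ, hw, germM_res, map_zero]
    exact htm r hr

end Groth.Agent.AssSch.Quot
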