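import Groth.Agent.AssSch.TensorFlat
import Groth.Agent.AssSch.FibreNoeth
import Groth.Agent.AssSch.Quot
import Groth.Agent.FDesc.BaseChangeStalk
import Groth.Agent.S2512
import Groth.Agent.FBase.PointScheme

/-!
Associated points of external tensor products `F ⊗_S G` with `G` flat over `S`.
-/

universe u

open CategoryTheory CategoryTheory.Limits AlgebraicGeometry IsLocalRing
open Groth.Agent.PullStalk.Basic

noncomputable section

namespace Groth.Agent.AssSch.ExtTensor

open TensorFlat

section Algebra

variable {A B : Type u} [CommRing A] [CommRing B] [IsLocalRing A] [IsLocalRing B]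

/-- Associated maximal ideal of a quotient, along a surjection of local rings. -/
theorem mem_quot_iff [Algebra A B] (hπ : Function.Surjective (algebraMap A B)) (J : Ideal B) :
    maximalIdeal B ∈ associatedPrimes B (B ⧸ J) ↔
      maximalIdeal A ∈ associatedPrimes A (A ⧸ J.comap (algebraMap A B)) := by
  have : IsLocalHom (algebraMap A B) := hπ.isLocalHom
  have hmax : (maximalIdeal B).comap (algebraMap A B) = maximalIdeal A := maximalIdeal_comap _
  have hcol : ∀ c : A, (⊥ : Submodule A (A ⧸ J.comap (algebraMap A B))).colon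
      {Ideal.Quotient.mk _ c} =
      ((⊥ : Submodule B (B ⧸ J)).colon {Ideal.Quotient.mk J (algebraMap A B c)}).comap
        (algebraMap A B) := fun c ↦ by
    ext a
    rw [Ideal.mem_comap, Submodule.mem_colon_singleton, Submodule.mem_bot,
      Submodule.mem_colon_singleton, Submodule.mem_bot]
    change Ideal.Quotient.mk _ (a * c) = 0 ↔
      Ideal.Quotient.mk J (algebraMap A B a * algebraMap A B c) = 0
    rw [Ideal.Quotient.eq_zero_iff_mem, Ideal.Quotient.eq_zero_iff_mem, Ideal.mem_comap, map_mul]
  constructor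
  · rintro ⟨-, m', hm'⟩
    obtain ⟨b, rfl⟩ := Ideal.Quotient.mk_surjective m'
    obtain ⟨c, rfl⟩ := hπ b
    exact ⟨(maximalIdeal.isMaximal A).isPrime, Ideal.Quotient.mk _ c, by
      rw [← hmax, hm', Ideal.comap_radical, hcol]⟩
  · rintro ⟨-, m, hm⟩
    obtain ⟨c, rfl⟩ := Ideal.Quotient.mk_surjective m
    refine ⟨(maximalIdeal.isMaximal B).isPrime, Ideal.Quotient.mk J (algebraMap A B c),
      Ideal.comap_injective_of_surjective _ hπ ?_⟩
    rw [hmax, Ideal.comap_radical, ← hcol, hm]

end Algebra

variable {X Y : Scheme.{u}}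

/-- The closed fibre of the local ring at `x` has `x` as an associated point. -/
def FibreAssRing (f : X ⟶ Y) (x : X) : Prop :=
  maximalIdeal (X.presheaf.stalk x) ∈ associatedPrimes (X.presheaf.stalk x)
    (X.presheaf.stalk x ⧸ (maximalIdeal (Y.presheaf.stalk (f x))).map (f.stalkMap x).hom)

/-- The stalk of a flat pullback. -/
theorem mem_ass_flat_pullback_iff (f : X ⟶ Y) [Flat f] [IsLocallyNoetherian Y] (M : Y.Modules)
    (x : X) :
    x ∈ _root_.AssSch.Ass ((Scheme.Modules.pullback f).obj M) ↔
      f x ∈ _root_.AssSch.Ass M ∧ FibreAssRing f x := by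
  let := (f.stalkMap x).hom.toAlgebra
  let := moduleOver f M x
  have : IsScalarTower (Y.presheaf.stalk (f x)) (X.presheaf.stalk x)
      (((Scheme.Modules.pullback f).obj M).presheaf.stalk x) :=
    IsScalarTower.of_algebraMap_smul fun _ _ ↦ rfl
  have : Module.Flat (Y.presheaf.stalk (f x)) (X.presheaf.stalk x) := Flat.stalkMap f x
  have : IsLocalHom (algebraMap (Y.presheaf.stalk (f x)) (X.presheaf.stalk x)) :=
    f.toLRSHom.prop x
  change maximalIdeal (X.presheaf.stalk x) ∈ associatedPrimes (X.presheaf.stalk x)
    (((Scheme.Modules.pullback f).obj M).presheaf.stalk x) ↔ _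
  rw [← LinearEquiv.AssociatedPrimes.eq (isBaseChange_unitStalk f M x).equiv, mem_tensor_iff]
  refine and_congr_right fun _ ↦ ?_
  rw [LinearEquiv.AssociatedPrimes.eq (Submodule.quotEquivOfEq _ _ (by
    rw [smul_eq_mul, Ideal.mul_top]) :
      (X.presheaf.stalk x ⧸ (maximalIdeal (Y.presheaf.stalk (f x))).map
        (algebraMap (Y.presheaf.stalk (f x)) (X.presheaf.stalk x)) •
          (⊤ : Submodule (X.presheaf.stalk x) (X.presheaf.stalk x))) ≃ₗ[X.presheaf.stalk x] _)]
  rfl

/-- Associated points of a fibre's structure sheaf. -/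
theorem mem_ass_fibre_structure_iff [IsLocallyNoetherian X] (f : X ⟶ Y) (s : Y) (x : f.fiber s) :
    x ∈ _root_.AssSch.Ass (Coh.structureModule (f.fiber s)) ↔ FibreAssRing f (f.fiberι s x) := by
  have := FibreNoeth.isLocallyNoetherian_fiber f s
  let := ((f.fiberι s).stalkMap x).hom.toAlgebra
  rw [FlatAss.mem_ass_structure_iff, ← LinearEquiv.AssociatedPrimes.eq
    (Submodule.quotEquivOfEqBot (⊥ : Ideal ((f.fiber s).presheaf.stalk x)) rfl),
    mem_quot_iff ((f.fiberι s).stalkMap_surjective x), ← RingHom.ker_eq_comap_bot]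
  exact Eq.to_iff (congrArg (fun I : Ideal (X.presheaf.stalk (f.fiberι s x)) ↦
    maximalIdeal (X.presheaf.stalk (f.fiberι s x)) ∈
      associatedPrimes (X.presheaf.stalk (f.fiberι s x)) (X.presheaf.stalk (f.fiberι s x) ⧸ I))
    (FlatMor.FibreStalk.ker_stalkMap_fiberι f s x))

/-- `FibreAssRing` does not change after composing with a morphism surjective on stalks. -/
theorem fibreAssRing_comp {Z : Scheme.{u}} (h : X ⟶ Y) (j : Y ⟶ Z) (x : X)
    (hj : Function.Surjective (j.stalkMap (h x))) :
    FibreAssRing (h ≫ j) x ↔ FibreAssRing h x := by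
  unfold FibreAssRing
  have e : (maximalIdeal (Z.presheaf.stalk (j (h x)))).map ((h ≫ j).stalkMap x).hom =
      (maximalIdeal (Y.presheaf.stalk (h x))).map (h.stalkMap x).hom := by
    refine (congrArg (fun φ : Z.presheaf.stalk (j (h x)) →+* X.presheaf.stalk x ↦
      (maximalIdeal (Z.presheaf.stalk (j (h x)))).map φ)
      (congrArg CommRingCat.Hom.hom (Scheme.Hom.stalkMap_comp h j x))).trans
      ((Ideal.map_map (I := maximalIdeal (Z.presheaf.stalk (j (h x)))) (j.stalkMap (h x)).hom
        (h.stalkMap x).hom).symm.trans ?_)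
    congr 1
    have hloc : IsLocalHom (j.stalkMap (h x)).hom := j.toLRSHom.prop (h x)
    refine le_antisymm (IsLocalRing.map_maximalIdeal_le _) fun b hb ↦ ?_
    obtain ⟨a, rfl⟩ := hj b
    exact Ideal.mem_map_of_mem _ fun hu ↦ hb (hu.map _)
  exact Eq.to_iff (congrArg (fun I : Ideal (X.presheaf.stalk x) ↦
    maximalIdeal (X.presheaf.stalk x) ∈
      associatedPrimes (X.presheaf.stalk x) (X.presheaf.stalk x ⧸ I)) e)

lemma fibreAssRing_congr {f g : X ⟶ Y} (h : f = g) (x : X) :
    FibreAssRing f x ↔ FibreAssRing g x := by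
  subst h
  rfl

lemma mem_ass_of_iso [IsLocallyNoetherian X] {A B : X.Modules} (e : A ≅ B) (x : X) :
    x ∈ _root_.AssSch.Ass A ↔ x ∈ _root_.AssSch.Ass B :=
  ⟨fun h ↦ @Quot.ass_subset_of_mono _ _ _ _ e.hom (IsIso.mono_of_iso _) _ h,
    fun h ↦ @Quot.ass_subset_of_mono _ _ _ _ e.inv (IsIso.mono_of_iso _) _ h⟩

/-- Associated points of structure sheaves along isomorphisms. -/
lemma mem_ass_structure_of_iso [IsLocallyNoetherian X] [IsLocallyNoetherian Y] (e : X ≅ Y) (x : X) :
    e.hom x ∈ _root_.AssSch.Ass (Coh.structureModule Y) ↔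
      x ∈ _root_.AssSch.Ass (Coh.structureModule X) := by
  let := (e.hom.stalkMap x).hom.toAlgebra
  have hb : Function.Bijective (e.hom.stalkMap x) := ConcreteCategory.bijective_of_isIso _
  rw [FlatAss.mem_ass_structure_iff, FlatAss.mem_ass_structure_iff,
    ← LinearEquiv.AssociatedPrimes.eq (Submodule.quotEquivOfEqBot (⊥ : Ideal (X.presheaf.stalk x)) rfl),
    mem_quot_iff (A := Y.presheaf.stalk (e.hom x)) hb.2, ← RingHom.ker_eq_comap_bot,
    LinearEquiv.AssociatedPrimes.eq (Submodule.quotEquivOfEqBot
      (RingHom.ker (algebraMap (Y.presheaf.stalk (e.hom x)) (X.presheaf.stalk x)))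
      ((RingHom.injective_iff_ker_eq_bot _).mp hb.1))]

section Fibres

variable {S : Scheme.{u}} (f : X ⟶ S) (g : Y ⟶ S)

/-- The fibre of the first projection over `x`, mapped to the second factor. -/
abbrev fibreSnd (x : X) : (pullback.fst f g).fiber x ⟶ Y :=
  (pullback.fst f g).fiberι x ≫ pullback.snd f g

/-- The fibre of the first projection is the fibre of `g` base changed to the residue field. -/
lemma isPullback_fibre (x : X) :
    IsPullback ((pullback.fst f g).fiberToSpecResidueField x) (fibreSnd f g x)
      (X.fromSpecResidueField x ≫ f) g :=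
  (IsPullback.of_hasPullback (pullback.fst f g) (X.fromSpecResidueField x)).flip.paste_vert
    (IsPullback.of_hasPullback f g)

/-- `T(x, y)` is a fibre of `fibreSnd`. -/
lemma isPullback_point (x : X) (y : Y) :
    IsPullback ((fibreSnd f g x).fiberι y ≫ (pullback.fst f g).fiberToSpecResidueField x)
      ((fibreSnd f g x).fiberToSpecResidueField y)
      (X.fromSpecResidueField x ≫ f) (Y.fromSpecResidueField y ≫ g) :=
  (IsPullback.of_hasPullback (fibreSnd f g x) (Y.fromSpecResidueField y)).paste_horiz
    (isPullback_fibre f g x)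

/-- The canonical map `T(x, y) ⟶ X ×_S Y`. -/
abbrev pointMap (x : X) (y : Y) :
    pullback (X.fromSpecResidueField x ≫ f) (Y.fromSpecResidueField y ≫ g) ⟶ pullback f g :=
  pullback.map (X.fromSpecResidueField x ≫ f) (Y.fromSpecResidueField y ≫ g) f g
    (X.fromSpecResidueField x) (Y.fromSpecResidueField y) (𝟙 S) (Category.comp_id _)
    (Category.comp_id _)

lemma isoPullback_hom_pointMap (x : X) (y : Y) :
    (isPullback_point f g x y).isoPullback.hom ≫ pointMap f g x y =
      (fibreSnd f g x).fiberι y ≫ (pullback.fst f g).fiberι x := by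
  apply pullback.hom_ext
  · rw [Category.assoc, pullback.lift_fst, ← Category.assoc, IsPullback.isoPullback_hom_fst,
      Category.assoc, Category.assoc, Scheme.Hom.fiber_fac]
  · rw [Category.assoc, pullback.lift_snd, ← Category.assoc, IsPullback.isoPullback_hom_snd,
      Category.assoc, ← Scheme.Hom.fiber_fac]

lemma pointMap_apply {x : X} {y : Y}
    (t : ↥(pullback (X.fromSpecResidueField x ≫ f) (Y.fromSpecResidueField y ≫ g))) :
    pullback.fst f g (pointMap f g x y t) = x ∧ pullback.snd f g (pointMap f g x y t) = y := by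
  constructor
  · rw [← Scheme.Hom.comp_apply, pullback.lift_fst, Scheme.Hom.comp_apply]
    exact Scheme.fromSpecResidueField_apply x _
  · rw [← Scheme.Hom.comp_apply, pullback.lift_snd, Scheme.Hom.comp_apply]
    exact Scheme.fromSpecResidueField_apply y _

variable [IsLocallyNoetherian (pullback f g)]

lemma isLocallyNoetherian_point (x : X) (y : Y) :
    IsLocallyNoetherian (pullback (X.fromSpecResidueField x ≫ f) (Y.fromSpecResidueField y ≫ g)) :=
  have := FibreNoeth.isLocallyNoetherian_fiber (pullback.fst f g) x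
  have := FibreNoeth.isLocallyNoetherian_fiber (fibreSnd f g x) y
  isLocallyNoetherian_of_isOpenImmersion (isPullback_point f g x y).isoPullback.inv

/-- The set `I(x, y)` through the fibre. -/
theorem mem_image_pointMap_iff (x : X) (w : (pullback.fst f g).fiber x) :
    (pullback.fst f g).fiberι x w ∈ pointMap f g x (fibreSnd f g x w) ''
        _root_.AssSch.Ass (Coh.structureModule
          (pullback (X.fromSpecResidueField x ≫ f)
            (Y.fromSpecResidueField (fibreSnd f g x w) ≫ g))) ↔
      FibreAssRing (fibreSnd f g x) w := by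
  have := FibreNoeth.isLocallyNoetherian_fiber (pullback.fst f g) x
  have := FibreNoeth.isLocallyNoetherian_fiber (fibreSnd f g x) (fibreSnd f g x w)
  have := isLocallyNoetherian_point f g x (fibreSnd f g x w)
  let e := (isPullback_point f g x (fibreSnd f g x w)).isoPullback
  have he : ∀ a, pointMap f g x (fibreSnd f g x w) (e.hom a) =
      (pullback.fst f g).fiberι x ((fibreSnd f g x).fiberι _ a) := fun a ↦
    congrArg (fun φ : (fibreSnd f g x).fiber (fibreSnd f g x w) ⟶ pullback f g ↦ φ a)
      (isoPullback_hom_pointMap f g x (fibreSnd f g x w))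
  constructor
  · rintro ⟨t, ht, htw⟩
    obtain ⟨a, rfl⟩ := e.hom.surjective t
    rw [he] at htw
    rw [← ((pullback.fst f g).fiberι x).isEmbedding.injective htw]
    exact (mem_ass_fibre_structure_iff _ _ a).mp ((mem_ass_structure_of_iso e a).mp ht)
  · intro h
    obtain ⟨a, ha⟩ : w ∈ Set.range ((fibreSnd f g x).fiberι (fibreSnd f g x w)) := by
      rw [Scheme.Hom.range_fiberι]; exact rfl
    refine ⟨e.hom a, (mem_ass_structure_of_iso e a).mpr
      ((mem_ass_fibre_structure_iff _ _ a).mpr (by rw [ha]; exact h)), ?_⟩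
    rw [he, ha]

/-- The closed fibre of `q^*G` along the first projection. -/
theorem fibreAss_snd_pullback_iff [IsLocallyNoetherian Y] (G : Y.Modules) (x : X)
    (w : (pullback.fst f g).fiber x) :
    FibreAss (pullback.fst f g) ((Scheme.Modules.pullback (pullback.snd f g)).obj G)
        ((pullback.fst f g).fiberι x w) ↔
      FibreAss g G (fibreSnd f g x w) ∧ FibreAssRing (fibreSnd f g x) w := by
  let p := pullback.fst f g
  have := FibreNoeth.isLocallyNoetherian_fiber p x
  have := FibreNoeth.isLocallyNoetherian_fiber g (f x)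
  have hw : fibreSnd f g x ≫ g = (p.fiberToSpecResidueField x ≫ Spec.map (f.residueFieldMap x)) ≫
      S.fromSpecResidueField (f x) := by
    exact (isPullback_fibre f g x).w.symm.trans
      ((congrArg (p.fiberToSpecResidueField x ≫ ·)
        (Scheme.Hom.SpecMap_residueFieldMap_fromSpecResidueField f x).symm).trans
          (Category.assoc _ _ _).symm)
  let h : p.fiber x ⟶ g.fiber (f x) :=
    pullback.lift (fibreSnd f g x) (p.fiberToSpecResidueField x ≫ Spec.map (f.residueFieldMap x)) hw
  have hh : h ≫ g.fiberι (f x) = fibreSnd f g x := pullback.lift_fst _ _ _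
  have hsq : IsPullback (p.fiberToSpecResidueField x) h (Spec.map (f.residueFieldMap x))
      (g.fiberToSpecResidueField (f x)) := by
    refine (IsPullback.of_bot ?_ ?_
      (IsPullback.of_hasPullback g (S.fromSpecResidueField (f x))).flip)
    · have h0 := isPullback_fibre f g x
      rw [← Scheme.Hom.SpecMap_residueFieldMap_fromSpecResidueField f x, ← hh] at h0
      exact h0
    · exact (pullback.lift_snd _ _ _).symm
  have : Flat (Spec.map (f.residueFieldMap x)) := (HasRingHomProperty.Spec_iff (P := @Flat)).2 (by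
    let := (f.residueFieldMap x).hom.toAlgebra
    show Module.Flat (S.residueField (f x)) (X.residueField x)
    infer_instance)
  have : Flat h := MorphismProperty.of_isPullback (P := @Flat) hsq ‹_›
  have e : (Scheme.Modules.pullback (p.fiberι x)).obj
        ((Scheme.Modules.pullback (pullback.snd f g)).obj G) ≅
      (Scheme.Modules.pullback h).obj ((Scheme.Modules.pullback (g.fiberι (f x))).obj G) :=
    (Scheme.Modules.pullbackComp (p.fiberι x) (pullback.snd f g)).app G ≪≫
      (Scheme.Modules.pullbackCongr hh.symm).app G ≪≫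
        ((Scheme.Modules.pullbackComp h (g.fiberι (f x))).app G).symm
  rw [← mem_ass_fibre_iff, mem_ass_of_iso e, mem_ass_flat_pullback_iff,
    mem_ass_fibre_iff, ← fibreAssRing_comp h (g.fiberι (f x)) w
      ((g.fiberι (f x)).stalkMap_surjective _), fibreAssRing_congr hh]
  rw [show g.fiberι (f x) (h w) = fibreSnd f g x w from
    congrArg (fun φ : p.fiber x ⟶ Y ↦ φ w) hh]

/-- The fundamental description of `Ass (F ⊗_S G)`. -/
theorem mem_ass_ext_iff [IsLocallyNoetherian X] [IsLocallyNoetherian Y] (F : X.Modules)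
    (G : Y.Modules) (hG : FlatMod.IsFlatOver g G) (z : ↥(pullback f g)) :
    z ∈ _root_.AssSch.Ass (CohB1.tensorMod ((Scheme.Modules.pullback (pullback.fst f g)).obj F)
        ((Scheme.Modules.pullback (pullback.snd f g)).obj G)) ↔
      pullback.fst f g z ∈ _root_.AssSch.Ass F ∧ FibreAss g G (pullback.snd f g z) ∧
        z ∈ pointMap f g (pullback.fst f g z) (pullback.snd f g z) ''
          _root_.AssSch.Ass (Coh.structureModule
            (pullback (X.fromSpecResidueField (pullback.fst f g z) ≫ f)
              (Y.fromSpecResidueField (pullback.snd f g z) ≫ g))) := by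
  rw [mem_ass_pullback_tensor_iff (pullback.fst f g) F _ z
    (FDesc.BaseChangeStalk.flatOverAt_baseChange (IsPullback.of_hasPullback f g).flip z G (hG _))]
  refine and_congr_right fun _ ↦ ?_
  generalize hx : pullback.fst f g z = x
  obtain ⟨w, rfl⟩ : z ∈ Set.range ((pullback.fst f g).fiberι x) := by
    rw [Scheme.Hom.range_fiberι]; exact hx
  rw [fibreAss_snd_pullback_iff, ← mem_image_pointMap_iff]
  rfl

end Fibres

section Points

variable {S : Scheme.{u}}

/-- Points of `Spec (K ⊗ L)` have no embedded specializations. -/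
lemma noEmbedded_spec_tensor {k K L : Type u} [Field k] [Field K] [Field L] [Algebra k K]
    [Algebra k L] [IsLocallyNoetherian (Spec (CommRingCat.of (TensorProduct k K L)))] :
    _root_.AssSch.NoEmbedded (Coh.structureModule (Spec (CommRingCat.of (TensorProduct k K L)))) := by
  let R := TensorProduct k K L
  have : IsNoetherianRing R := (isLocallyNoetherian_Spec (R := CommRingCat.of R)).mp ‹_›
  have hmem : ∀ p : ↥(Spec (CommRingCat.of R)),
      p ∈ _root_.AssSch.Ass (Coh.structureModule (Spec (CommRingCat.of R))) →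
        (p : PrimeSpectrum R).asIdeal ∈ minimalPrimes R := by
    intro p hp
    rw [FlatAss.mem_ass_structure_iff] at hp
    let P : PrimeSpectrum R := p
    let : Algebra R ((Spec (CommRingCat.of R)).presheaf.stalk p) :=
      StructureSheaf.stalkAlgebra R P
    have : IsLocalization.AtPrime ((Spec (CommRingCat.of R)).presheaf.stalk p) P.asIdeal :=
      StructureSheaf.IsLocalization.to_stalk R P
    refine S2512.result ?_
    have key := Module.associatedPrimes.preimage_comap_associatedPrimes_eq_associatedPrimes_of_isLocalizedModule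
      P.asIdeal.primeCompl (R' := (Spec (CommRingCat.of R)).presheaf.stalk p)
      (Algebra.linearMap R ((Spec (CommRingCat.of R)).presheaf.stalk p))
    rw [← key, Set.mem_preimage] at hp
    have hc : (maximalIdeal ((Spec (CommRingCat.of R)).presheaf.stalk p)).comap
        (algebraMap R ((Spec (CommRingCat.of R)).presheaf.stalk p)) = P.asIdeal :=
      IsLocalization.AtPrime.under_maximalIdeal _ P.asIdeal
    exact hc ▸ hp
  intro a ha b hb hba
  have hle : (b : PrimeSpectrum R).asIdeal ≤ (a : PrimeSpectrum R).asIdeal :=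
    (PrimeSpectrum.le_iff_specializes (b : PrimeSpectrum R) a).mpr hba
  exact PrimeSpectrum.ext (le_antisymm
    ((hmem a ha).2 ⟨(b : PrimeSpectrum R).isPrime, bot_le⟩ hle) hle)

lemma noEmbedded_of_iso [IsLocallyNoetherian X] [IsLocallyNoetherian Y] (e : X ≅ Y)
    (h : _root_.AssSch.NoEmbedded (Coh.structureModule Y)) :
    _root_.AssSch.NoEmbedded (Coh.structureModule X) := fun a ha b hb hba ↦
  e.hom.isOpenEmbedding.injective (h _ ((mem_ass_structure_of_iso e a).mpr ha) _
    ((mem_ass_structure_of_iso e b).mpr hb) (hba.map e.hom.continuous))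

/-- `T(x, y)` has no embedded associated points. -/
theorem noEmbedded_point (f : X ⟶ S) (g : Y ⟶ S) [IsLocallyNoetherian (pullback f g)] (x : X)
    (y : Y) (hxy : g y = f x) :
    _root_.AssSch.NoEmbedded (Coh.structureModule
      (pullback (X.fromSpecResidueField x ≫ f) (Y.fromSpecResidueField y ≫ g))) := by
  have := isLocallyNoetherian_point f g x y
  let ψ := (S.residueFieldCongr hxy.symm).hom ≫ g.residueFieldMap y
  have hψ : Spec.map ψ ≫ S.fromSpecResidueField (f x) = Y.fromSpecResidueField y ≫ g := by
    rw [Spec.map_comp, Category.assoc, Scheme.residueFieldCongr_fromSpecResidueField,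
      Scheme.Hom.SpecMap_residueFieldMap_fromSpecResidueField]
  have h1 : IsPullback (pullback.fst (Spec.map (f.residueFieldMap x)) (Spec.map ψ))
      (pullback.snd (Spec.map (f.residueFieldMap x)) (Spec.map ψ))
      (X.fromSpecResidueField x ≫ f) (Y.fromSpecResidueField y ≫ g) := by
    rw [← Scheme.Hom.SpecMap_residueFieldMap_fromSpecResidueField, ← hψ]
    exact IsPullback.of_isLimit (pullbackIsPullbackOfCompMono (Spec.map (f.residueFieldMap x))
      (Spec.map ψ) (S.fromSpecResidueField (f x)))
  let := (f.residueFieldMap x).hom.toAlgebra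
  let := ψ.hom.toAlgebra
  let e := h1.isoPullback.symm ≪≫ pullbackSpecIso (S.residueField (f x)) (X.residueField x)
    (Y.residueField y)
  have := isLocallyNoetherian_of_isOpenImmersion e.inv
  exact noEmbedded_of_iso e noEmbedded_spec_tensor

/-- Points in the same `I(x, y)` do not specialize to one another. -/
theorem eq_of_specializes_image (f : X ⟶ S) (g : Y ⟶ S) [IsLocallyNoetherian (pullback f g)]
    (x : X) (y : Y) {a b : ↥(pullback f g)}
    (ha : a ∈ pointMap f g x y '' _root_.AssSch.Ass (Coh.structureModule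
      (pullback (X.fromSpecResidueField x ≫ f) (Y.fromSpecResidueField y ≫ g))))
    (hb : b ∈ pointMap f g x y '' _root_.AssSch.Ass (Coh.structureModule
      (pullback (X.fromSpecResidueField x ≫ f) (Y.fromSpecResidueField y ≫ g))))
    (hba : b ⤳ a) : a = b := by
  obtain ⟨s, hs, rfl⟩ := ha
  obtain ⟨t, ht, rfl⟩ := hb
  obtain ⟨h1, h2⟩ := pointMap_apply f g s
  have hxy : g y = f x := by
    exact ((congrArg g h2).symm.trans (congrArg (fun φ : pullback f g ⟶ S ↦ φ (pointMap f g x y s))
      (pullback.condition (f := f) (g := g)).symm)).trans (congrArg f h1)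
  have : IsPreimmersion (pointMap f g x y) := by
    have : MorphismProperty.IsStableUnderComposition @IsPreimmersion :=
      ⟨fun f g hf hg ↦ @IsPreimmersion.comp _ _ _ f g hf hg⟩
    exact MorphismProperty.pullbackMap (P := @IsPreimmersion) inferInstance inferInstance rfl rfl
  rw [noEmbedded_point f g x y hxy s hs t ht
    ((pointMap f g x y).isEmbedding.isInducing.specializes_iff.mp hba)]

end Points

end Groth.Agent.AssSch.ExtTensor
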