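import Groth.Agent.AssSch.Structure
import Mathlib.AlgebraicGeometry.Morphisms.Flat
import Mathlib.RingTheory.Flat.Basic
import Mathlib.RingTheory.Ideal.AssociatedPrime.Finiteness

/-!
Associated points of modules flat over the base map to associated points of the base.
-/

universe u

open CategoryTheory AlgebraicGeometry TopologicalSpace Opposite

namespace Groth.Agent.AssSch.FlatAss

lemma isSMulRegular_of_flat {A M : Type*} [CommRing A] [AddCommGroup M] [Module A M]
    [Module.Flat A M] {a : A} (h : IsSMulRegular A a) : IsSMulRegular M a := by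
  have h1 : Function.Injective ((LinearMap.lsmul A A a).rTensor M) :=
    Module.Flat.rTensor_preserves_injective_linearMap _ h
  intro m n hmn
  apply (TensorProduct.lid A M).symm.injective
  apply h1
  have e : ∀ x : M, (LinearMap.lsmul A A a).rTensor M ((TensorProduct.lid A M).symm x) =
      (TensorProduct.lid A M).symm (a • x) := by
    intro x
    simp [TensorProduct.lid_symm_apply, TensorProduct.smul_tmul']
  rw [e, e]
  exact congrArg _ hmn

/-- Flat local homomorphism: an associated maximal ideal upstairs gives one downstairs. -/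
lemma maximalIdeal_mem_of_flat {A B M : Type*} [CommRing A] [CommRing B] [IsLocalRing A]
    [IsLocalRing B] [IsNoetherianRing A] [IsNoetherianRing B] [Algebra A B]
    [IsLocalHom (algebraMap A B)] [AddCommGroup M] [Module B M] [Module A M] [IsScalarTower A B M]
    [Module.Flat A M] (h : IsLocalRing.maximalIdeal B ∈ associatedPrimes B M) :
    IsLocalRing.maximalIdeal A ∈ associatedPrimes A A := by
  obtain ⟨hp, m, hm⟩ := isAssociatedPrime_iff.mp h
  have hall : (IsLocalRing.maximalIdeal A : Set A) ⊆ ⋃ p ∈ associatedPrimes A A, (p : Set A) := by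
    intro a ha
    rw [biUnion_associatedPrimes_eq_zero_divisors]
    by_contra hreg
    have hr : IsSMulRegular A a := isSMulRegular_iff_right_eq_zero_of_smul.mpr fun r hr ↦ by
      by_contra hr0
      exact hreg ⟨r, hr0, hr⟩
    have hmem : algebraMap A B a ∈ IsLocalRing.maximalIdeal B :=
      fun hu ↦ ha (isUnit_of_map_unit (algebraMap A B) a hu)
    rw [hm, Submodule.mem_colon_singleton, Submodule.mem_bot, algebraMap_smul] at hmem
    have hm0 : m = 0 := isSMulRegular_of_flat (M := M) hr (hmem.trans (smul_zero a).symm)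
    refine hp.ne_top ?_
    rw [hm, hm0, Ideal.eq_top_iff_one, Submodule.mem_colon_singleton, smul_zero]
    exact zero_mem _
  obtain ⟨p, hpA, hle⟩ := (Ideal.subset_union_prime_finite (associatedPrimes.finite A A) ⊥ ⊥
    (fun i hi _ _ ↦ hi.isPrime)).mp hall
  rwa [(IsLocalRing.le_maximalIdeal hpA.isPrime.ne_top).antisymm hle] at hpA

variable {X Y : Scheme.{u}}

/-- Associated points of the structure sheaf, read on the local ring. -/
lemma mem_ass_structure_iff [IsLocallyNoetherian Y] (y : Y) :
    y ∈ _root_.AssSch.Ass (Coh.structureModule Y) ↔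
      IsLocalRing.maximalIdeal (Y.presheaf.stalk y) ∈
        associatedPrimes (Y.presheaf.stalk y) (Y.presheaf.stalk y) := by
  obtain ⟨V, hV, hyV⟩ := Basic.exists_affine y
  let := (Y.presheaf.germ V y hyV).hom.toAlgebra
  have : IsLocalization.AtPrime (Y.presheaf.stalk y) (Stalk.primeOf hV y hyV) :=
    hV.isLocalization_stalk ⟨y, hyV⟩
  have := Stalk.isNoetherianRing_of_isAffineOpen hV
  rw [Stalk.mem_ass_iff (Coh.structureModule Y) hV y hyV]
  have key := Module.associatedPrimes.preimage_comap_associatedPrimes_eq_associatedPrimes_of_isLocalizedModule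
    (Stalk.primeOf hV y hyV).primeCompl (R' := Y.presheaf.stalk y)
    (Algebra.linearMap Γ(Y, V) (Y.presheaf.stalk y))
  rw [← key, Set.mem_preimage]
  have hcomap := IsLocalization.AtPrime.under_maximalIdeal (Y.presheaf.stalk y)
    (Stalk.primeOf hV y hyV)
  exact Eq.to_iff (congrArg (· ∈ associatedPrimes Γ(Y, V) Γ(Y, V)) hcomap.symm)

/-- A flat module: associated points map to associated points of the base. -/
lemma map_mem_ass [IsLocallyNoetherian X] [IsLocallyNoetherian Y] (f : X ⟶ Y) (F : X.Modules)
    (x : X) (hflat : FlatMod.IsFlatOverAt f F x) (hx : x ∈ _root_.AssSch.Ass F) :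
    f x ∈ _root_.AssSch.Ass (Coh.structureModule Y) := by
  let := (f.stalkMap x).hom.toAlgebra
  let := FlatMod.moduleStalkOver f F x
  have : IsScalarTower (Y.presheaf.stalk (f x)) (X.presheaf.stalk x) (F.presheaf.stalk x) :=
    IsScalarTower.of_algebraMap_smul fun _ _ ↦ rfl
  have : IsLocalHom (algebraMap (Y.presheaf.stalk (f x)) (X.presheaf.stalk x)) :=
    f.toLRSHom.prop x
  have hf : Module.Flat (Y.presheaf.stalk (f x)) (F.presheaf.stalk x) := hflat
  have h := maximalIdeal_mem_of_flat (A := Y.presheaf.stalk (f x)) (B := X.presheaf.stalk x) hx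
  exact (mem_ass_structure_iff (f x)).mpr h

/-- A flat morphism maps associated points to associated points. -/
lemma map_mem_ass_structure [IsLocallyNoetherian X] [IsLocallyNoetherian Y] (f : X ⟶ Y) [Flat f]
    (x : X) (hx : x ∈ _root_.AssSch.Ass (Coh.structureModule X)) :
    f x ∈ _root_.AssSch.Ass (Coh.structureModule Y) := by
  let := (f.stalkMap x).hom.toAlgebra
  have : IsLocalHom (algebraMap (Y.presheaf.stalk (f x)) (X.presheaf.stalk x)) :=
    f.toLRSHom.prop x
  have : Module.Flat (Y.presheaf.stalk (f x)) (X.presheaf.stalk x) := Flat.stalkMap f x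
  exact (mem_ass_structure_iff (f x)).mpr (maximalIdeal_mem_of_flat
    (A := Y.presheaf.stalk (f x)) ((mem_ass_structure_iff x).mp hx))

end Groth.Agent.AssSch.FlatAss
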