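import Groth.Agent.AssSch.TensorFlat
import Groth.Agent.AssSch.FibreNoeth
import Groth.Agent.AssSch.Basic
import Groth.Agent.FDesc.QuasiFlat
import Groth.Agent.CAlgA.AssTensor
import Groth.Agent.S2498
import Groth.Agent.SchPoints.Basic

/-!
Coherent modules flat over the base: points of fibres, going down, lengths.
-/

universe u

open CategoryTheory AlgebraicGeometry TensorProduct IsLocalRing
open Groth.Agent.PullStalk.Sky Groth.Agent.PullStalk.Basic

noncomputable section

namespace Groth.Agent.AssSch.FlatTensor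

open TensorFlat

variable {X Y : Scheme.{u}}

/-- The stalk of the restriction to a fibre is the closed fibre of the stalk. -/
theorem length_pullback_fibre (f : X ⟶ Y) (F : X.Modules) (s : Y) (z : f.fiber s) :
    Module.length ((f.fiber s).presheaf.stalk z)
        (((Scheme.Modules.pullback (f.fiberι s)).obj F).presheaf.stalk z) =
      Module.length (X.presheaf.stalk (f.fiberι s z))
        (F.presheaf.stalk (f.fiberι s z) ⧸
          (maximalIdeal (Y.presheaf.stalk (f (f.fiberι s z)))).map (f.stalkMap (f.fiberι s z)).hom •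
            (⊤ : Submodule (X.presheaf.stalk (f.fiberι s z)) (F.presheaf.stalk (f.fiberι s z)))) := by
  let j := f.fiberι s
  let := (j.stalkMap z).hom.toAlgebra
  let := moduleOver j F z
  have : IsScalarTower (X.presheaf.stalk (j z)) ((f.fiber s).presheaf.stalk z)
      (((Scheme.Modules.pullback j).obj F).presheaf.stalk z) :=
    IsScalarTower.of_algebraMap_smul fun _ _ ↦ rfl
  rw [← FlatMor.FibreStalk.ker_stalkMap_fiberι f s z]
  exact ((quotEquiv (j.stalkMap_surjective z) (isBaseChange_unitStalk j F z)).length_eq.trans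
    (Module.length_eq_of_surjective (j.stalkMap_surjective z))).symm

/-- Nakayama: the closed fibre of a nonzero coherent stalk is nonzero. -/
theorem nontrivial_fibre_stalk (f : X ⟶ Y) (F : X.Modules) (hF : Coh.IsCoh F) (x : X)
    (hx : Nontrivial (F.presheaf.stalk x)) :
    Nontrivial (F.presheaf.stalk x ⧸
      (maximalIdeal (Y.presheaf.stalk (f x))).map (f.stalkMap x).hom •
        (⊤ : Submodule (X.presheaf.stalk x) (F.presheaf.stalk x))) := by
  have := FDesc.QuasiFlat.finite_stalk_of_isCoh F hF x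
  refine Submodule.Quotient.nontrivial_iff.mpr fun htop ↦ ?_
  have hle : (maximalIdeal (Y.presheaf.stalk (f x))).map (f.stalkMap x).hom ≤
      maximalIdeal (X.presheaf.stalk x) :=
    Ideal.map_le_iff_le_comap.mpr fun a ha hu ↦ ha ((f.toLRSHom.prop x).map_nonunit a hu)
  exact top_ne_bot (α := Submodule (X.presheaf.stalk x) (F.presheaf.stalk x))
    (Submodule.eq_bot_of_le_smul_of_le_jacobson_bot _ ⊤ Module.Finite.fg_top htop.ge
      (hle.trans (maximalIdeal_le_jacobson _)))

/-- An associated fibre point lies in the support. -/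
theorem nontrivial_of_fibreAss {f : X ⟶ Y} {F : X.Modules} {x : X} (h : FibreAss f F x) :
    Nontrivial (F.presheaf.stalk x) := by
  by_contra hc
  rw [not_nontrivial_iff_subsingleton] at hc
  exact not_isAssociatedPrime_of_subsingleton h

variable [IsLocallyNoetherian X]

/-- Every point of the support generalizes to an associated point of its fibre. -/
theorem exists_fibreAss_specializes (f : X ⟶ Y) (F : X.Modules) (hF : Coh.IsCoh F) (x : X)
    (hx : Nontrivial (F.presheaf.stalk x)) :
    ∃ x₁, x₁ ⤳ x ∧ f x₁ = f x ∧ FibreAss f F x₁ := by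
  have : F.IsQuasicoherent := hF.1
  have := FibreNoeth.isLocallyNoetherian_fiber f (f x)
  let j := f.fiberι (f x)
  let z := f.asFiber x
  have hz : j z = x := f.fiberι_asFiber x
  have hn : Nontrivial (((Scheme.Modules.pullback j).obj F).presheaf.stalk z) := by
    have h0 := nontrivial_fibre_stalk f F hF (j z) (by rw [hz]; exact hx)
    rw [← FlatMor.FibreStalk.ker_stalkMap_fiberι f (f x) z] at h0
    let := (j.stalkMap z).hom.toAlgebra
    let := moduleOver j F z
    have : IsScalarTower (X.presheaf.stalk (j z)) ((f.fiber (f x)).presheaf.stalk z)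
        (((Scheme.Modules.pullback j).obj F).presheaf.stalk z) :=
      IsScalarTower.of_algebraMap_smul fun _ _ ↦ rfl
    exact (quotEquiv (j.stalkMap_surjective z)
      (isBaseChange_unitStalk j F z)).symm.toEquiv.nontrivial
  obtain ⟨w, hw, hws⟩ :=
    Basic.exists_mem_ass_specializes ((Scheme.Modules.pullback j).obj F) hn
  refine ⟨j w, (hws.map j.continuous).trans (specializes_of_eq hz), ?_, (mem_ass_fibre_iff f F (f x) w).mp hw⟩
  exact (f.range_fiberι (f x)).le ⟨w, rfl⟩

omit [IsLocallyNoetherian X] in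
/-- A prime containing the annihilator of a stalk element gives a point in the support. -/
theorem nontrivial_stalk_of_ann_le (F : X.Modules) [F.IsQuasicoherent] (x : X)
    (q : PrimeSpectrum (X.presheaf.stalk x)) (t : F.presheaf.stalk x)
    (h : ∀ a : X.presheaf.stalk x, a • t = 0 → a ∈ q.asIdeal) :
    Nontrivial (F.presheaf.stalk (X.fromSpecStalk x q)) := by
  obtain ⟨V, hV, hxV⟩ := Basic.exists_affine x
  set z := X.fromSpecStalk x q
  have hzV : z ∈ V := (SchPoints.fromSpecStalk_specializes x q).mem_open V.2 hxV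
  have hp : ∀ a, a ∈ Stalk.primeOf hV z hzV ↔ X.presheaf.germ V x hxV a ∈ q.asIdeal := by
    intro a
    have e : hV.primeIdealOf ⟨z, hzV⟩ = Spec.map (X.presheaf.germ V x hxV) q := by
      apply hV.fromSpec.isOpenEmbedding.injective
      refine (hV.fromSpec_primeIdealOf ⟨z, hzV⟩).trans ?_
      exact congrArg (fun φ : Spec (X.presheaf.stalk x) ⟶ X ↦ φ q)
        (hV.fromSpecStalk_eq_fromSpecStalk hxV).symm
    change a ∈ (hV.primeIdealOf ⟨z, hzV⟩).asIdeal ↔ _
    rw [e]
    rfl
  obtain ⟨g, m, hg, hgm⟩ := Stalk.exists_germ_smul_eq F hV x hxV t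
  refine ⟨germM F V z hzV m, 0, fun h0 ↦ ?_⟩
  obtain ⟨a, ha, ham⟩ := (Stalk.germM_eq_zero_iff F hV z hzV m).mp h0
  refine ha ((hp a).mpr (h _ (((Stalk.isUnit_germ_iff hV x hxV g).mpr hg).smul_eq_zero.mp ?_)))
  rw [smul_comm, hgm, ← germM_smul, ham, Stalk.germM_zero]

/-- Going down: generalizations of the image lift to the support. -/
theorem exists_generization (f : X ⟶ Y) (F : X.Modules) (hF : Coh.IsCoh F) (x : X)
    (hflat : FlatMod.IsFlatOverAt f F x) (hx : Nontrivial (F.presheaf.stalk x))
    {y' : Y} (hy : y' ⤳ f x) :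
    ∃ x', x' ⤳ x ∧ f x' = y' ∧ Nontrivial (F.presheaf.stalk x') := by
  have : F.IsQuasicoherent := hF.1
  obtain ⟨p, rfl⟩ := SchPoints.exists_fromSpecStalk_eq hy
  have : p.asIdeal.IsPrime := p.isPrime
  let := (f.stalkMap x).hom.toAlgebra
  let := FlatMod.moduleStalkOver f F x
  have : IsScalarTower (Y.presheaf.stalk (f x)) (X.presheaf.stalk x) (F.presheaf.stalk x) :=
    IsScalarTower.of_algebraMap_smul fun _ _ ↦ rfl
  have : Module.Flat (Y.presheaf.stalk (f x)) (F.presheaf.stalk x) := hflat
  let A := Y.presheaf.stalk (f x)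
  let N := F.presheaf.stalk x
  let P : Submodule (X.presheaf.stalk x) N :=
    p.asIdeal.map (algebraMap A (X.presheaf.stalk x)) • ⊤
  have hN : Nontrivial (N ⧸ P) := by
    have h0 := nontrivial_fibre_stalk f F hF x hx
    rw [Submodule.Quotient.nontrivial_iff] at h0 ⊢
    refine fun e ↦ h0 (eq_top_iff.mpr (e.ge.trans (Submodule.smul_mono_left (Ideal.map_mono ?_))))
    exact le_maximalIdeal p.isPrime.ne_top
  obtain ⟨q, hq⟩ := associatedPrimes.nonempty (X.presheaf.stalk x) (N ⧸ P)
  obtain ⟨hqp, w, hw⟩ := isAssociatedPrime_iff.mp hq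
  obtain ⟨n, rfl⟩ := Submodule.Quotient.mk_surjective _ w
  have hcomap : q.comap (algebraMap A (X.presheaf.stalk x)) = p.asIdeal := by
    refine le_antisymm (fun a ha ↦ by_contra fun hap ↦ hqp.ne_top ?_) fun a ha ↦ ?_
    · rw [Ideal.mem_comap, hw, Submodule.mem_colon_singleton, Submodule.mem_bot,
        ← Submodule.Quotient.mk_smul, Submodule.Quotient.mk_eq_zero] at ha
      rw [hw, (Submodule.Quotient.mk_eq_zero _).mpr (CAlgA.FibreMod.mem_pN_of_smul_mem
        (S := X.presheaf.stalk x) N p.asIdeal hap ha), Ideal.eq_top_iff_one,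
        Submodule.mem_colon_singleton, smul_zero]
      exact zero_mem _
    · rw [Ideal.mem_comap, hw, Submodule.mem_colon_singleton, Submodule.mem_bot,
        ← Submodule.Quotient.mk_smul, Submodule.Quotient.mk_eq_zero]
      exact Submodule.smul_mem_smul (Ideal.mem_map_of_mem _ ha) trivial
  refine ⟨X.fromSpecStalk x ⟨q, hqp⟩, SchPoints.fromSpecStalk_specializes x _, ?_,
    nontrivial_stalk_of_ann_le F x ⟨q, hqp⟩ n fun a ha ↦ ?_⟩
  · show (X.fromSpecStalk x ≫ f) ⟨q, hqp⟩ = _
    rw [← Scheme.SpecMap_stalkMap_fromSpecStalk f]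
    exact congrArg (Y.fromSpecStalk (f x)) (PrimeSpectrum.ext hcomap)
  · show a ∈ q
    rw [hw, Submodule.mem_colon_singleton, Submodule.mem_bot, ← Submodule.Quotient.mk_smul, ha]
    rfl

omit [IsLocallyNoetherian X] in
/-- Lengths: a stalk of length one of `f^*E ⊗ F` over an associated point of `E`. -/
theorem length_fibre_of_length_tensor (f : X ⟶ Y) [IsLocallyNoetherian Y] (E : Y.Modules)
    (F : X.Modules) (x : X) (hflat : FlatMod.IsFlatOverAt f F x)
    (hy : f x ∈ _root_.AssSch.Ass E) (hn : FibreAss f F x)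
    (h1 : Module.length (X.presheaf.stalk x)
      ((CohB1.tensorMod ((Scheme.Modules.pullback f).obj E) F).presheaf.stalk x) = 1) :
    Module.length (X.presheaf.stalk x) (F.presheaf.stalk x ⧸
      (maximalIdeal (Y.presheaf.stalk (f x))).map (f.stalkMap x).hom •
        (⊤ : Submodule (X.presheaf.stalk x) (F.presheaf.stalk x))) = 1 := by
  let := (f.stalkMap x).hom.toAlgebra
  let := FlatMod.moduleStalkOver f F x
  have : IsScalarTower (Y.presheaf.stalk (f x)) (X.presheaf.stalk x) (F.presheaf.stalk x) :=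
    IsScalarTower.of_algebraMap_smul fun _ _ ↦ rfl
  have : Module.Flat (Y.presheaf.stalk (f x)) (F.presheaf.stalk x) := hflat
  obtain ⟨-, ψ, hψ⟩ := (isAssociatedPrime_iff_exists_injective_linearMap _ _).mp hy
  let Ψ := TensorProduct.AlgebraTensorModule.lTensor (X.presheaf.stalk x) (F.presheaf.stalk x) ψ
  have hΨ : Function.Injective Ψ := Module.Flat.lTensor_preserves_injective_linearMap ψ hψ
  have hle := Module.length_le_of_injective
    ((tensorStalkEquiv f E F x).symm.toLinearMap ∘ₗ Ψ ∘ₗ
      CAlgA.AssTensor.quotToTensor (S := X.presheaf.stalk x) (F.presheaf.stalk x)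
        (maximalIdeal (Y.presheaf.stalk (f x))))
    ((tensorStalkEquiv f E F x).symm.injective.comp
      (hΨ.comp (CAlgA.AssTensor.quotToTensor_bijective _ _).1))
  refine le_antisymm (hle.trans h1.le) (Order.one_le_iff_pos.mpr (Module.length_pos_iff.mpr ?_))
  by_contra hc
  rw [not_nontrivial_iff_subsingleton] at hc
  exact not_isAssociatedPrime_of_subsingleton hn

omit [IsLocallyNoetherian X] in
/-- Lengths: over a fibre point of length one the lengths of `f^*E ⊗ F` and `E` agree. -/
theorem length_tensor_of_fibre (f : X ⟶ Y) (E : Y.Modules) (F : X.Modules) (x : X)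
    (hflat : FlatMod.IsFlatOverAt f F x)
    (h1 : Module.length (X.presheaf.stalk x) (F.presheaf.stalk x ⧸
      (maximalIdeal (Y.presheaf.stalk (f x))).map (f.stalkMap x).hom •
        (⊤ : Submodule (X.presheaf.stalk x) (F.presheaf.stalk x))) = 1) :
    Module.length (X.presheaf.stalk x)
        ((CohB1.tensorMod ((Scheme.Modules.pullback f).obj E) F).presheaf.stalk x) =
      Module.length (Y.presheaf.stalk (f x)) (E.presheaf.stalk (f x)) := by
  let := (f.stalkMap x).hom.toAlgebra
  let := FlatMod.moduleStalkOver f F x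
  have : IsScalarTower (Y.presheaf.stalk (f x)) (X.presheaf.stalk x) (F.presheaf.stalk x) :=
    IsScalarTower.of_algebraMap_smul fun _ _ ↦ rfl
  have : Module.Flat (Y.presheaf.stalk (f x)) (F.presheaf.stalk x) := hflat
  have : IsLocalHom (algebraMap (Y.presheaf.stalk (f x)) (X.presheaf.stalk x)) :=
    f.toLRSHom.prop x
  have hfl := Module.length_ne_top_iff.mp (h1.trans_ne ENat.one_ne_top)
  have : Module.FaithfullyFlat (Y.presheaf.stalk (f x)) (F.presheaf.stalk x) := by
    refine ⟨fun {m} hm htop ↦ ?_⟩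
    obtain rfl := eq_maximalIdeal hm
    have hne : ((maximalIdeal (Y.presheaf.stalk (f x))).map (f.stalkMap x).hom •
        (⊤ : Submodule (X.presheaf.stalk x) (F.presheaf.stalk x))) ≠ ⊤ := fun e ↦ by
      rw [← Submodule.Quotient.subsingleton_iff, ← Module.length_eq_zero_iff (R := X.presheaf.stalk x),
        h1] at e
      exact one_ne_zero e
    refine hne (eq_top_iff.mpr fun t _ ↦ ?_)
    have ht : t ∈ maximalIdeal (Y.presheaf.stalk (f x)) •
        (⊤ : Submodule (Y.presheaf.stalk (f x)) (F.presheaf.stalk x)) := htop.symm ▸ trivial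
    refine Submodule.smul_induction_on ht (fun a ha n _ ↦ ?_) fun a b ha hb ↦ add_mem ha hb
    exact Submodule.smul_mem_smul (Ideal.mem_map_of_mem _ ha) trivial
  have h2 := Groth.Agent.S2498.result (E.presheaf.stalk (f x)) (F.presheaf.stalk x) hfl
  refine ((tensorStalkEquiv f E F x).length_eq.trans h2).trans ?_
  exact (congrArg _ h1).trans (mul_one _)

end Groth.Agent.AssSch.FlatTensor
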