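import Groth.Agent.AssSch.ExtTensor
import Groth.Agent.QCoh.Qcqs
import Groth.Agent.ProjTwist.Tensor

/-!
Associated points over a field and on integral schemes.
-/

universe u

open CategoryTheory CategoryTheory.Limits AlgebraicGeometry IsLocalRing

noncomputable section

namespace Groth.Agent.AssSch.Integral

variable {k : Type u} [Field k]

/-- The local ring of the spectrum of a field is a field. -/
theorem isField_stalk (s : ↥(Spec (CommRingCat.of k))) :
    IsField ((Spec (CommRingCat.of k)).presheaf.stalk s) := by
  refine isField_stalk_of_closure_mem_irreducibleComponents _ _ ?_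
  rw [irreducibleComponents_eq_singleton]
  exact Set.eq_univ_of_forall fun t ↦ subset_closure (Subsingleton.elim t s)

/-- Every module is flat over a field. -/
theorem isFlatOver_field {X : Scheme.{u}} (f : X ⟶ Spec (CommRingCat.of k)) (M : X.Modules) :
    FlatMod.IsFlatOver f M := fun x ↦ by
  let := FlatMod.moduleStalkOver f M x
  let := (isField_stalk (f x)).toField
  change Module.Flat _ _
  exact Module.Flat.of_free

/-- The only associated point of an integral scheme is the generic point. -/
theorem eq_genericPoint_of_mem_ass {X : Scheme.{u}} [IsIntegral X] [IsLocallyNoetherian X] (x : X)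
    (hx : x ∈ _root_.AssSch.Ass (Coh.structureModule X)) : x = genericPoint X := by
  have h := (FlatAss.mem_ass_structure_iff x).mp hx
  have hb : maximalIdeal (X.presheaf.stalk x) = ⊥ := by
    rwa [← LinearEquiv.AssociatedPrimes.eq (Submodule.quotEquivOfEqBot (⊥ : Ideal (X.presheaf.stalk x)) rfl),
      associatedPrimes.eq_singleton_of_isPrimary (Ideal.isPrime_bot.isPrimary),
      Set.mem_singleton_iff, Ideal.isPrime_bot.radical] at h
  have hf : IsField (X.presheaf.stalk x) := IsLocalRing.isField_iff_maximalIdeal_eq.mpr hb
  obtain ⟨p, hpx⟩ := (X.range_fromSpecStalk (x := x)).ge (genericPoint_specializes x)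
  rw [← hpx]
  have : Subsingleton ↥(Spec (X.presheaf.stalk x)) := by
    let := hf.toField
    exact inferInstanceAs (Subsingleton (PrimeSpectrum (X.presheaf.stalk x)))
  rw [Subsingleton.elim p (closedPoint _), Scheme.fromSpecStalk_closedPoint]

theorem noEmbedded_of_isIntegral (X : Scheme.{u}) [IsIntegral X] [IsLocallyNoetherian X] :
    _root_.AssSch.NoEmbedded (Coh.structureModule X) := fun a ha b hb _ ↦
  (eq_genericPoint_of_mem_ass a ha).trans (eq_genericPoint_of_mem_ass b hb).symm

/-- `p^* O ⊗ q^* O ≅ O`. -/
def extStructureIso {X Y S : Scheme.{u}} (f : X ⟶ S) (g : Y ⟶ S) :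
    CohB1.tensorMod ((Scheme.Modules.pullback (pullback.fst f g)).obj (Coh.structureModule X))
      ((Scheme.Modules.pullback (pullback.snd f g)).obj (Coh.structureModule Y)) ≅
      Coh.structureModule (pullback f g) :=
  ProjTwist.tensCongr (QCoh.pullbackUnitIso _) (QCoh.pullbackUnitIso _) ≪≫ ProjTwist.oneTens _

end Groth.Agent.AssSch.Integral
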