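import Groth.Agent.AssSch.Reduced

/-!
Integral modules under extensions of the base field.
-/

universe u

open CategoryTheory CategoryTheory.Limits AlgebraicGeometry IsLocalRing TensorProduct

noncomputable section

namespace Groth.Agent.AssSch.IntegralBC

open Groth.Agent.AssSch.TensorFlat Groth.Agent.AssSch.ExtTensor Groth.Agent.AssSch.Reduced
open Groth.Agent.HomShEval.Reflexive

variable {Z Y : Scheme.{u}}

/-- Associated points of a flat pullback, read on a fibre. -/
theorem fiberι_mem_ass_pullback_iff (f : Z ⟶ Y) [Flat f] [IsLocallyNoetherian Z]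
    [IsLocallyNoetherian Y] (E : Y.Modules) (y : Y) (w : f.fiber y) :
    f.fiberι y w ∈ _root_.AssSch.Ass ((Scheme.Modules.pullback f).obj E) ↔
      y ∈ _root_.AssSch.Ass E ∧ w ∈ _root_.AssSch.Ass (Coh.structureModule (f.fiber y)) := by
  have hfw : f (f.fiberι y w) = y := by
    have : f.fiberι y w ∈ Set.range (f.fiberι y) := ⟨w, rfl⟩
    rwa [Scheme.Hom.range_fiberι] at this
  have := FibreNoeth.isLocallyNoetherian_fiber f y
  rw [← mem_ass_of_iso (ProjTwist.tensOne _),
    mem_ass_pullback_tensor_iff f E _ _ (isFlatOver_structure f _), ← mem_ass_fibre_iff,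
    mem_ass_of_iso (QCoh.pullbackUnitIso _), hfw]

theorem exists_mem_ass_structure (Z : Scheme.{u}) [IsLocallyNoetherian Z] (z : Z) :
    ∃ v ∈ _root_.AssSch.Ass (Coh.structureModule Z), v ⤳ z := by
  have : (Coh.structureModule Z).IsQuasicoherent :=
    inferInstanceAs (SheafOfModules.unit Z.ringCatSheaf).IsQuasicoherent
  exact Basic.exists_mem_ass_specializes (Coh.structureModule Z)
    (structureStalkEquiv z).injective.nontrivial

/-- Over every associated point in the image there is an associated point of the flat pullback. -/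
theorem exists_mem_ass_pullback (f : Z ⟶ Y) [Flat f] [Surjective f] [IsLocallyNoetherian Z]
    [IsLocallyNoetherian Y] (E : Y.Modules) {y : Y} (hy : y ∈ _root_.AssSch.Ass E) :
    ∃ z ∈ _root_.AssSch.Ass ((Scheme.Modules.pullback f).obj E), f z = y := by
  obtain ⟨z, hz⟩ := f.surjective y
  obtain ⟨w, rfl⟩ : z ∈ Set.range (f.fiberι y) := by rw [Scheme.Hom.range_fiberι]; exact hz
  have := FibreNoeth.isLocallyNoetherian_fiber f y
  obtain ⟨v, hv, -⟩ := exists_mem_ass_structure (f.fiber y) w
  refine ⟨f.fiberι y v, (fiberι_mem_ass_pullback_iff f E y v).mpr ⟨hy, hv⟩, ?_⟩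
  have : f.fiberι y v ∈ Set.range (f.fiberι y) := ⟨v, rfl⟩
  rwa [Scheme.Hom.range_fiberι] at this

section Field

variable {k : Type u} [Field k]

/-- Domains after all finite extensions give domains after all extensions. -/
theorem isDomain_tensor_of_forall_finite (A : Type u) [CommRing A] [Algebra k A]
    (h : ∀ (k' : Type u) [Field k'] [Algebra k k'] [FiniteDimensional k k'], IsDomain (k' ⊗[k] A))
    (K : Type u) [Field K] [Algebra k K] : IsDomain (K ⊗[k] A) := by
  have hdom : IsDomain (AlgebraicClosure k ⊗[k] A) := by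
    have hA : Nontrivial A := by
      have := h k
      exact (Algebra.TensorProduct.lid k A).injective.nontrivial
    have : Nontrivial (AlgebraicClosure k ⊗[k] A) :=
      (Algebra.TensorProduct.includeRight_injective (A := AlgebraicClosure k) (B := A)
        (RingHom.injective _)).nontrivial
    have : NoZeroDivisors (AlgebraicClosure k ⊗[k] A) := by
      refine ⟨fun {z w} hzw ↦ ?_⟩
      obtain ⟨F, hF, hsub⟩ := CAlgA.GeomTensor.exists_finite_sub (k := k) (S := A)
        (E := AlgebraicClosure k) {z, w} (Set.toFinite _)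
      obtain ⟨z', rfl⟩ := hsub (Set.mem_insert z _)
      obtain ⟨w', rfl⟩ := hsub (Set.mem_insert_of_mem _ rfl)
      have := h F
      have hinj := CAlgA.GeomTensor.injective_map_left (k := k) (S := A) F.val Subtype.val_injective
      rw [← map_mul, ← map_zero (Algebra.TensorProduct.map F.val (AlgHom.id k A))] at hzw
      rcases mul_eq_zero.mp (hinj hzw) with e | e
      · exact Or.inl (by rw [e, map_zero])
      · exact Or.inr (by rw [e, map_zero])
    exact NoZeroDivisors.to_isDomain _
  let i : AlgebraicClosure k →ₐ[k] AlgebraicClosure K := IsAlgClosed.lift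
  let := i.toRingHom.toAlgebra
  have : IsScalarTower k (AlgebraicClosure k) (AlgebraicClosure K) := IsScalarTower.of_algHom i
  have h2 : IsDomain ((AlgebraicClosure k ⊗[k] A) ⊗[AlgebraicClosure k] AlgebraicClosure K) :=
    FBase.TensorAlgClosed.isDomain_tensor_field
  have h4 : IsDomain (AlgebraicClosure K ⊗[k] A) :=
    ((Algebra.TensorProduct.cancelBaseChange k (AlgebraicClosure k) (AlgebraicClosure K)
      (AlgebraicClosure K) A).symm.toRingEquiv.trans
      (Algebra.TensorProduct.comm (AlgebraicClosure k) _ _).toRingEquiv).toMulEquiv.isDomain _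
  exact Function.Injective.isDomain
    (f := Algebra.TensorProduct.map (IsScalarTower.toAlgHom k K (AlgebraicClosure K)) (AlgHom.id k A))
    (Module.Flat.rTensor_preserves_injective_linearMap _ (RingHom.injective _))

variable {X : Scheme.{u}} (f : X ⟶ Spec (CommRingCat.of k))

/-- The hypothesis: one associated point of length one after every finite extension. -/
abbrev IntegralAfterFinite (F : X.Modules) : Prop :=
  ∀ (k' : Type u) [Field k'] [Algebra k k'] [FiniteDimensional k k'],
    ∃ x' : ↥(_root_.FBase.bc f k'),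
      _root_.AssSch.Ass ((Scheme.Modules.pullback (_root_.FBase.bcπ f k')).obj F) = {x'} ∧
      Module.length ↑((_root_.FBase.bc f k').presheaf.stalk x')
        ↑(((Scheme.Modules.pullback (_root_.FBase.bcπ f k')).obj F).presheaf.stalk x') = 1

theorem geomReduced_of_integral (F : X.Modules) (hF : IntegralAfterFinite f F)
    (k' : Type u) [Field k'] [Algebra k k'] [FiniteDimensional k k'] :
    _root_.AssSch.IsReducedMod ((Scheme.Modules.pullback (_root_.FBase.bcπ f k')).obj F) := by
  obtain ⟨x', hx', hl⟩ := hF k'
  refine ⟨fun a ha b hb _ ↦ ?_, fun z hz ↦ ?_⟩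
  · rw [hx', Set.mem_singleton_iff] at ha hb
    rw [ha, hb]
  · rw [hx', Set.mem_singleton_iff] at hz
    subst hz
    exact hl

/-- Integral after all extensions. -/
theorem main [IsLocallyNoetherian X] (F : X.Modules) (hF : IntegralAfterFinite f F)
    (K : Type u) [Field K] [Algebra k K] [IsLocallyNoetherian (_root_.FBase.bc f K)] :
    ∃ x' : ↥(_root_.FBase.bc f K),
      _root_.AssSch.Ass ((Scheme.Modules.pullback (_root_.FBase.bcπ f K)).obj F) = {x'} ∧
      Module.length ↑((_root_.FBase.bc f K).presheaf.stalk x')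
        ↑(((Scheme.Modules.pullback (_root_.FBase.bcπ f K)).obj F).presheaf.stalk x') = 1 := by
  have hFgr : ∀ (k' : Type u) [Field k'] [Algebra k k'] [FiniteDimensional k k']
      [IsPurelyInseparable k k'],
      _root_.AssSch.IsReducedMod ((Scheme.Modules.pullback (_root_.FBase.bcπ f k')).obj F) :=
    fun k' _ _ _ _ ↦ geomReduced_of_integral f F hF k'
  let g := Spec.map (CommRingCat.ofHom (algebraMap k K))
  have : IsLocallyNoetherian (pullback f g) := ‹IsLocallyNoetherian (_root_.FBase.bc f K)›
  have : Flat g := flat_of_field g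
  have : Surjective g := FBase.BC.surjective_specMap (k := k) (K := K)
  -- base change along finite extensions
  have fin : ∀ (k' : Type u) [Field k'] [Algebra k k'] [FiniteDimensional k k'],
      ∃ _ : IsLocallyNoetherian (pullback f (Spec.map (CommRingCat.ofHom (algebraMap k k')))),
        Flat (pullback.fst f (Spec.map (CommRingCat.ofHom (algebraMap k k')))) ∧
        Surjective (pullback.fst f (Spec.map (CommRingCat.ofHom (algebraMap k k')))) ∧
        IsFinite (pullback.fst f (Spec.map (CommRingCat.ofHom (algebraMap k k')))) := by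
    intro k' _ _ _
    let g' := Spec.map (CommRingCat.ofHom (algebraMap k k'))
    have : IsFinite g' := by
      rw [IsFinite.SpecMap_iff]
      exact RingHom.finite_algebraMap.mpr inferInstance
    have : Flat g' := flat_of_field g'
    have : Surjective g' := FBase.BC.surjective_specMap (k := k) (K := k')
    have : IsFinite (pullback.fst f g') := MorphismProperty.pullback_fst f g' ‹IsFinite g'›
    exact ⟨LocallyOfFiniteType.isLocallyNoetherian (pullback.fst f g'), inferInstance,
      MorphismProperty.pullback_fst f g' ‹Surjective g'›, this⟩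
  -- the unique associated point of `F`
  obtain ⟨x, hx⟩ : ∃ x, _root_.AssSch.Ass F = {x} := by
    obtain ⟨_, _, _, _⟩ := fin k
    obtain ⟨z, hz, -⟩ := hF k
    let π := pullback.fst f (Spec.map (CommRingCat.ofHom (algebraMap k k)))
    have hz' : _root_.AssSch.Ass ((Scheme.Modules.pullback π).obj F) = {z} := hz
    refine ⟨π z, Set.eq_singleton_iff_unique_mem.mpr ⟨?_, fun y hy ↦ ?_⟩⟩
    · have hmem : z ∈ _root_.AssSch.Ass ((Scheme.Modules.pullback π).obj F) := hz'.ge rfl
      generalize hy : π z = y
      obtain ⟨w, rfl⟩ : z ∈ Set.range (π.fiberι y) := by rw [Scheme.Hom.range_fiberι]; exact hy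
      exact ((fiberι_mem_ass_pullback_iff π F y w).mp hmem).1
    · obtain ⟨z', hz1, rfl⟩ := exists_mem_ass_pullback π F hy
      obtain rfl : z' = z := hz'.le hz1
      rfl
  have hxF : x ∈ _root_.AssSch.Ass F := hx.ge rfl
  -- its residue field stays a domain
  obtain ⟨φ, hφ⟩ := Spec.map_surjective (X.fromSpecResidueField x ≫ f)
  let := φ.hom.toAlgebra
  have hdomK : IsDomain (K ⊗[k] (X.residueField x)) := by
    refine isDomain_tensor_of_forall_finite _ (fun k' _ _ _ ↦ ?_) K
    obtain ⟨_, _, _, _⟩ := fin k'
    let g' := Spec.map (CommRingCat.ofHom (algebraMap k k'))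
    let π := pullback.fst f g'
    obtain ⟨z, hz, -⟩ := hF k'
    have hred : AlgebraicGeometry.IsReduced (π.fiber x) :=
      isReduced_fiber_of_isReducedMod_pullback π F hxF (geomReduced_of_integral f F hF k')
    have := FibreNoeth.isLocallyNoetherian_fiber π x
    have hnz : ∀ v : ↥(π.fiber x), π.fiberι x v = z := fun v ↦ by
      obtain ⟨u, hu, huv⟩ := exists_mem_ass_structure (π.fiber x) v
      obtain rfl : u = v := huv.eq
      have hmem := (fiberι_mem_ass_pullback_iff π F x u).mpr ⟨hxF, hu⟩
      exact (Set.mem_singleton_iff.mp (hz ▸ hmem :))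
    have : Subsingleton ↥(π.fiber x) :=
      ⟨fun a b ↦ (π.fiberι x).isEmbedding.injective ((hnz a).trans (hnz b).symm)⟩
    obtain ⟨z0, hz0⟩ := π.surjective x
    have : Nonempty ↥(π.fiber x) := by
      obtain ⟨w, -⟩ : z0 ∈ Set.range (π.fiberι x) := by rw [Scheme.Hom.range_fiberι]; exact hz0
      exact ⟨w⟩
    have : IsIntegral (π.fiber x) :=
      (isIntegral_iff_irreducibleSpace_and_isReduced _).mpr ⟨⟨inferInstance⟩, hred⟩
    have : IsIntegral (pullback (Spec.map φ) g') := by
      rw [hφ]
      exact IsIntegral.of_isIso (isPullback_fibre f g' x).isoPullback.hom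
    have : IsIntegral (Spec (CommRingCat.of ((X.residueField x) ⊗[k] k'))) :=
      IsIntegral.of_isIso (pullbackSpecIso k (X.residueField x) k').hom
    have := (affine_isIntegral_iff (CommRingCat.of ((X.residueField x) ⊗[k] k'))).mp this
    exact (Algebra.TensorProduct.comm k k' (X.residueField x)).toMulEquiv.isDomain
      ((X.residueField x) ⊗[k] k')
  -- the fibre over `x`
  let π := pullback.fst f g
  have : Surjective π := MorphismProperty.pullback_fst f g ‹Surjective g›
  have := FibreNoeth.isLocallyNoetherian_fiber π x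
  have : IsDomain ((X.residueField x) ⊗[k] K) :=
    (Algebra.TensorProduct.comm k (X.residueField x) K).toMulEquiv.isDomain (K ⊗[k] X.residueField x)
  have : IsIntegral (Spec (CommRingCat.of ((X.residueField x) ⊗[k] K))) :=
    (affine_isIntegral_iff _).mpr this
  have : IsIntegral (pullback (Spec.map φ) g) :=
    IsIntegral.of_isIso (pullbackSpecIso k (X.residueField x) K).inv
  have : IsIntegral (π.fiber x) := by
    rw [hφ] at this
    exact IsIntegral.of_isIso (isPullback_fibre f g x).isoPullback.inv
  obtain ⟨z, hz, hzx⟩ := exists_mem_ass_pullback π F hxF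
  have hred : _root_.AssSch.IsReducedMod ((Scheme.Modules.pullback π).obj F) :=
    isReducedMod_pullback π F (isReducedMod_of_geomReduced f F hFgr) fun y hy ↦ by
      obtain rfl : y = x := hx.le hy
      infer_instance
  refine ⟨z, Set.eq_singleton_iff_unique_mem.mpr ⟨hz, fun z' hz' ↦ ?_⟩, hred.2 z hz⟩
  have hz'x : π z' = x := by
    generalize hy : π z' = y
    obtain ⟨w, rfl⟩ : z' ∈ Set.range (π.fiberι y) := by rw [Scheme.Hom.range_fiberι]; exact hy
    exact hx.le ((fiberι_mem_ass_pullback_iff π F y w).mp hz').1
  obtain ⟨w, rfl⟩ : z ∈ Set.range (π.fiberι x) := by rw [Scheme.Hom.range_fiberι]; exact hzx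
  obtain ⟨w', rfl⟩ : z' ∈ Set.range (π.fiberι x) := by rw [Scheme.Hom.range_fiberι]; exact hz'x
  rw [Integral.eq_genericPoint_of_mem_ass w ((fiberι_mem_ass_pullback_iff π F x w).mp hz).2,
    Integral.eq_genericPoint_of_mem_ass w' ((fiberι_mem_ass_pullback_iff π F x w').mp hz').2]

end Field

end Groth.Agent.AssSch.IntegralBC
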