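import Groth.Agent.AssSch.FlatTensor
import Groth.Agent.AssSch.ExtTensor
import Groth.Agent.AssSch.Integral
import Groth.Agent.HomShEval.Reflexive
import Groth.Agent.PullStalk.Exact
import Groth.Agent.FBase.BC
import Groth.Agent.FBase.PerfectReduced
import Mathlib.AlgebraicGeometry.Morphisms.QuasiFinite

/-!
Reduced modules under flat pullback and external tensor products.
-/

universe u

open CategoryTheory CategoryTheory.Limits AlgebraicGeometry IsLocalRing TensorProduct

noncomputable section

namespace Groth.Agent.AssSch.Reduced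

open Groth.Agent.AssSch.TensorFlat Groth.Agent.AssSch.FlatTensor Groth.Agent.AssSch.ExtTensor
open Groth.Agent.HomShEval.Reflexive Groth.Agent.PullStalk.Exact

variable {Z Y : Scheme.{u}}

theorem length_stalk_of_iso {A B : Z.Modules} (e : A ≅ B) (z : Z) :
    Module.length (Z.presheaf.stalk z) (A.presheaf.stalk z) =
      Module.length (Z.presheaf.stalk z) (B.presheaf.stalk z) := by
  have hb : Function.Bijective (stalkLin e.hom z) := by
    have : IsIso e.hom.mapPresheaf :=
      inferInstanceAs (IsIso ((Scheme.Modules.toPresheaf Z).map e.hom))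
    exact ConcreteCategory.bijective_of_isIso ((TopCat.Presheaf.stalkFunctor Ab z).map e.hom.mapPresheaf)
  exact (LinearEquiv.ofBijective _ hb).length_eq

theorem isReducedMod_of_iso [IsLocallyNoetherian Z] {A B : Z.Modules} (e : A ≅ B)
    (h : _root_.AssSch.IsReducedMod A) : _root_.AssSch.IsReducedMod B :=
  ⟨fun a ha b hb hba ↦ h.1 _ ((mem_ass_of_iso e a).mpr ha) _ ((mem_ass_of_iso e b).mpr hb) hba,
    fun z hz ↦ (length_stalk_of_iso e z).symm.trans (h.2 _ ((mem_ass_of_iso e z).mpr hz))⟩

theorem isFlatOver_structure (f : Z ⟶ Y) [Flat f] :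
    FlatMod.IsFlatOver f (Coh.structureModule Z) := fun x ↦ by
  let := (f.stalkMap x).hom.toAlgebra
  let := FlatMod.moduleStalkOver f (Coh.structureModule Z) x
  have : IsScalarTower (Y.presheaf.stalk (f x)) (Z.presheaf.stalk x)
      ((Coh.structureModule Z).presheaf.stalk x) :=
    IsScalarTower.of_algebraMap_smul fun _ _ ↦ rfl
  have : Module.Flat (Y.presheaf.stalk (f x)) (Z.presheaf.stalk x) := Flat.stalkMap f x
  exact Module.Flat.of_linearEquiv
    ((structureStalkEquiv x).restrictScalars (Y.presheaf.stalk (f x))).symm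

/-- An associated point of a reduced scheme has a field as local ring. -/
theorem isField_stalk_of_mem_ass [AlgebraicGeometry.IsReduced Z] [IsLocallyNoetherian Z] {z : Z}
    (hz : z ∈ _root_.AssSch.Ass (Coh.structureModule Z)) : IsField (Z.presheaf.stalk z) := by
  obtain ⟨-, ψ, hψ⟩ := (isAssociatedPrime_iff_exists_injective_linearMap _ _).mp
    ((FlatAss.mem_ass_structure_iff z).mp hz)
  set a := ψ 1 with ha
  have hann : ∀ r ∈ maximalIdeal (Z.presheaf.stalk z), r * a = 0 := fun r hr ↦ by
    rw [ha, ← smul_eq_mul, ← map_smul, Algebra.smul_def, mul_one]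
    exact (congrArg ψ (Ideal.Quotient.eq_zero_iff_mem.mpr hr)).trans (map_zero ψ)
  have ha0 : a ≠ 0 := fun h ↦ one_ne_zero (hψ (h.trans (map_zero ψ).symm))
  have hau : IsUnit a := by
    by_contra h
    exact ha0 (IsNilpotent.eq_zero ⟨2, by rw [pow_two]; exact hann a h⟩)
  rw [IsLocalRing.isField_iff_maximalIdeal_eq, eq_bot_iff]
  exact fun r hr ↦ (Submodule.mem_bot _).mpr (hau.mul_left_eq_zero.mp (hann r hr))

/-- A reduced locally Noetherian scheme has reduced structure module. -/
theorem isReducedMod_structure (Z : Scheme.{u}) [AlgebraicGeometry.IsReduced Z]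
    [IsLocallyNoetherian Z] : _root_.AssSch.IsReducedMod (Coh.structureModule Z) := by
  refine ⟨fun a ha b _ hba ↦ ?_, fun z hz ↦ ?_⟩
  · obtain ⟨p, hp⟩ := (Z.range_fromSpecStalk (x := a)).ge hba
    let := (isField_stalk_of_mem_ass ha).toField
    have : Subsingleton ↥(Spec (Z.presheaf.stalk a)) :=
      inferInstanceAs (Subsingleton (PrimeSpectrum (Z.presheaf.stalk a)))
    rw [← hp, Subsingleton.elim p (closedPoint _), Scheme.fromSpecStalk_closedPoint]
  · let := (isField_stalk_of_mem_ass hz).toField
    rw [← (structureStalkEquiv z).length_eq]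
    exact Module.length_eq_one _ _

/-- `f^*E ⊗ G` is reduced for `G` flat with reduced fibres over the associated points of `E`. -/
theorem isReducedMod_pullback_tensor (f : Z ⟶ Y) [IsLocallyNoetherian Z] [IsLocallyNoetherian Y]
    (E : Y.Modules) (G : Z.Modules) (hG : FlatMod.IsFlatOver f G)
    (hE : _root_.AssSch.IsReducedMod E)
    (hfib : ∀ y ∈ _root_.AssSch.Ass E,
      _root_.AssSch.IsReducedMod ((Scheme.Modules.pullback (f.fiberι y)).obj G)) :
    _root_.AssSch.IsReducedMod (CohB1.tensorMod ((Scheme.Modules.pullback f).obj E) G) := by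
  refine ⟨fun a ha b hb hba ↦ ?_, fun z hz ↦ ?_⟩
  · obtain ⟨ha1, ha2⟩ := (mem_ass_pullback_tensor_iff f E G a (hG a)).mp ha
    obtain ⟨hb1, hb2⟩ := (mem_ass_pullback_tensor_iff f E G b (hG b)).mp hb
    have e : f a = f b := hE.1 _ ha1 _ hb1 (hba.map f.continuous)
    generalize hy : f a = y at ha1 e
    obtain ⟨a', rfl⟩ : a ∈ Set.range (f.fiberι y) := by rw [Scheme.Hom.range_fiberι]; exact hy
    obtain ⟨b', rfl⟩ : b ∈ Set.range (f.fiberι y) := by rw [Scheme.Hom.range_fiberι]; exact e.symm
    exact congrArg _ ((hfib y ha1).1 _ ((mem_ass_fibre_iff f G y a').mpr ha2) _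
      ((mem_ass_fibre_iff f G y b').mpr hb2)
      ((f.fiberι y).isEmbedding.toIsInducing.specializes_iff.mp hba))
  · obtain ⟨hz1, hz2⟩ := (mem_ass_pullback_tensor_iff f E G z (hG z)).mp hz
    have key : ∀ y, f z = y → y ∈ _root_.AssSch.Ass E → Module.length (Z.presheaf.stalk z)
        (G.presheaf.stalk z ⧸ (maximalIdeal (Y.presheaf.stalk (f z))).map (f.stalkMap z).hom •
          (⊤ : Submodule (Z.presheaf.stalk z) (G.presheaf.stalk z))) = 1 := by
      intro y hy hy1
      obtain ⟨z', rfl⟩ : z ∈ Set.range (f.fiberι y) := by rw [Scheme.Hom.range_fiberι]; exact hy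
      exact (length_pullback_fibre f G y z').symm.trans
        ((hfib y hy1).2 _ ((mem_ass_fibre_iff f G y z').mpr hz2))
    exact (length_tensor_of_fibre f E G z (hG z) (key _ rfl hz1)).trans (hE.2 _ hz1)

/-- A flat pullback with reduced fibres over the associated points of a reduced module is reduced. -/
theorem isReducedMod_pullback (f : Z ⟶ Y) [Flat f] [IsLocallyNoetherian Z] [IsLocallyNoetherian Y]
    (E : Y.Modules) (hE : _root_.AssSch.IsReducedMod E)
    (hfib : ∀ y ∈ _root_.AssSch.Ass E, AlgebraicGeometry.IsReduced (f.fiber y)) :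
    _root_.AssSch.IsReducedMod ((Scheme.Modules.pullback f).obj E) :=
  isReducedMod_of_iso (ProjTwist.tensOne _)
    (isReducedMod_pullback_tensor f E _ (isFlatOver_structure f) hE fun y hy ↦
      have := hfib y hy
      have := FibreNoeth.isLocallyNoetherian_fiber f y
      isReducedMod_of_iso (QCoh.pullbackUnitIso _).symm (isReducedMod_structure _))

/-- Conversely, associated points of the fibres over an associated point have length one. -/
theorem isReduced_fiber_of_isReducedMod_pullback (f : Z ⟶ Y) [Flat f] [LocallyQuasiFinite f]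
    [IsLocallyNoetherian Z] [IsLocallyNoetherian Y] (E : Y.Modules) {y : Y}
    (hy : y ∈ _root_.AssSch.Ass E)
    (h : _root_.AssSch.IsReducedMod ((Scheme.Modules.pullback f).obj E)) :
    AlgebraicGeometry.IsReduced (f.fiber y) := by
  have h' := isReducedMod_of_iso (ProjTwist.tensOne ((Scheme.Modules.pullback f).obj E)).symm h
  have hG := isFlatOver_structure f
  have := FibreNoeth.isLocallyNoetherian_fiber f y
  have : ∀ w : ↥(f.fiber y), _root_.IsReduced ((f.fiber y).presheaf.stalk w) := by
    intro w
    have : (Coh.structureModule (f.fiber y)).IsQuasicoherent := inferInstanceAs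
      (SheafOfModules.unit (f.fiber y).ringCatSheaf).IsQuasicoherent
    have hnt : Nontrivial ((Coh.structureModule (f.fiber y)).presheaf.stalk w) :=
      (structureStalkEquiv w).injective.nontrivial
    obtain ⟨v, hv, hvw⟩ := Basic.exists_mem_ass_specializes (Coh.structureModule (f.fiber y)) hnt
    obtain rfl : v = w := hvw.eq
    have hfw : f (f.fiberι y v) = y := by
      have : f.fiberι y v ∈ Set.range (f.fiberι y) := ⟨v, rfl⟩
      rwa [Scheme.Hom.range_fiberι] at this
    have hass : FibreAss f (Coh.structureModule Z) (f.fiberι y v) :=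
      (mem_ass_fibre_iff f _ y v).mp ((mem_ass_of_iso (QCoh.pullbackUnitIso _) v).mpr hv)
    have hmem := (mem_ass_pullback_tensor_iff f E _ (f.fiberι y v) (hG _)).mpr ⟨hfw.symm ▸ hy, hass⟩
    have h1 := length_fibre_of_length_tensor f E _ _ (hG _) (hfw.symm ▸ hy) hass (h'.2 _ hmem)
    rw [← length_pullback_fibre f _ y v, length_stalk_of_iso (QCoh.pullbackUnitIso _),
      ← (structureStalkEquiv v).length_eq, Module.length_eq_one_iff,
      isSimpleModule_iff, ← Ring.isField_iff_isSimpleOrder_ideal] at h1
    let := h1.toField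
    infer_instance
  exact isReduced_of_isReduced_stalk _

section Field

variable {k : Type u} [Field k]

/-- A morphism to the spectrum of a field is flat. -/
theorem flat_of_field {X : Scheme.{u}} (f : X ⟶ Spec (CommRingCat.of k)) : Flat f := by
  rw [Flat.iff_flat_stalkMap]
  intro x
  let := (Integral.isField_stalk (f x)).toField
  let := (f.stalkMap x).hom.toAlgebra
  show Module.Flat _ _
  exact Module.Flat.of_free

/-- Reducedness after finite purely inseparable extensions gives geometric reducedness. -/
theorem isGeometricallyReduced_of_purelyInseparable (A : Type u) [CommRing A] [Algebra k A]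
    (h : ∀ (k' : Type u) [Field k'] [Algebra k k'] [FiniteDimensional k k'] [IsPurelyInseparable k k'],
      _root_.IsReduced (k' ⊗[k] A)) : Algebra.IsGeometricallyReduced k A := by
  refine FBase.PerfectReduced.isGeometricallyReduced_of_perfect k
    (perfectClosure k (AlgebraicClosure k)) ⟨fun x hx ↦ ?_⟩
  obtain ⟨F, hF, hsub⟩ := CAlgA.GeomTensor.exists_finite_sub (k := k) (S := A)
    (E := perfectClosure k (AlgebraicClosure k)) {x} (Set.finite_singleton x)
  obtain ⟨y, rfl⟩ := hsub rfl
  have : IsPurelyInseparable k F :=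
    IsPurelyInseparable.tower_bot k F (perfectClosure k (AlgebraicClosure k))
  have := h F
  rw [IsNilpotent.eq_zero ((IsNilpotent.map_iff
    (CAlgA.GeomTensor.injective_map_left F.val Subtype.val_injective)).mp hx), map_zero]

variable {X : Scheme.{u}} (f : X ⟶ Spec (CommRingCat.of k))

/-- Associated points of a geometrically reduced module have geometrically reduced residue fields. -/
theorem geometricallyReduced_residueField [IsLocallyNoetherian X] (F : X.Modules)
    (hF : ∀ (k' : Type u) [Field k'] [Algebra k k'] [FiniteDimensional k k'] [IsPurelyInseparable k k'],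
      _root_.AssSch.IsReducedMod ((Scheme.Modules.pullback (_root_.FBase.bcπ f k')).obj F))
    {x : X} (hx : x ∈ _root_.AssSch.Ass F) :
    GeometricallyReduced (X.fromSpecResidueField x ≫ f) := by
  obtain ⟨φ, hφ⟩ := Spec.map_surjective (X.fromSpecResidueField x ≫ f)
  rw [← hφ]
  let := φ.hom.toAlgebra
  suffices Algebra.IsGeometricallyReduced k (X.residueField x) from
    FBase.BC.geometricallyReduced_specMap_algebra (k := k) (X.residueField x)
  refine isGeometricallyReduced_of_purelyInseparable _ fun k' _ _ _ _ ↦ ?_
  let g := Spec.map (CommRingCat.ofHom (algebraMap k k'))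
  have : IsFinite g := by
    rw [IsFinite.SpecMap_iff]
    exact RingHom.finite_algebraMap.mpr inferInstance
  have : Flat g := flat_of_field g
  have : IsLocallyNoetherian (pullback f g) :=
    LocallyOfFiniteType.isLocallyNoetherian (pullback.fst f g)
  have : AlgebraicGeometry.IsReduced ((pullback.fst f g).fiber x) :=
    isReduced_fiber_of_isReducedMod_pullback (pullback.fst f g) F hx (hF k')
  have : AlgebraicGeometry.IsReduced (pullback (Spec.map φ) g) := by
    rw [hφ]
    exact isReduced_of_isOpenImmersion (isPullback_fibre f g x).isoPullback.inv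
  have : AlgebraicGeometry.IsReduced (Spec (CommRingCat.of ((X.residueField x) ⊗[k] k'))) :=
    isReduced_of_isOpenImmersion (pullbackSpecIso k (X.residueField x) k').inv
  have : _root_.IsReduced ((X.residueField x) ⊗[k] k') := (affine_isReduced_iff _).mp this
  exact isReduced_of_injective _ (Algebra.TensorProduct.comm k k' (X.residueField x)).injective

/-- A geometrically reduced module is reduced. -/
theorem isReducedMod_of_geomReduced [IsLocallyNoetherian X] (F : X.Modules)
    (hF : ∀ (k' : Type u) [Field k'] [Algebra k k'] [FiniteDimensional k k'] [IsPurelyInseparable k k'],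
      _root_.AssSch.IsReducedMod ((Scheme.Modules.pullback (_root_.FBase.bcπ f k')).obj F)) :
    _root_.AssSch.IsReducedMod F := by
  have hg : Spec.map (CommRingCat.ofHom (algebraMap k k)) = 𝟙 _ := by
    rw [Algebra.algebraMap_self]; exact Spec.map_id _
  let π := _root_.FBase.bcπ f k
  have : IsIso π := by
    show IsIso (pullback.fst f _)
    have : IsIso (Spec.map (CommRingCat.ofHom (algebraMap k k))) := hg ▸ inferInstance
    infer_instance
  have : IsLocallyNoetherian (_root_.FBase.bc f k) := isLocallyNoetherian_of_isOpenImmersion π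
  refine isReducedMod_of_iso ((Scheme.Modules.pullbackComp (inv π) π).app F ≪≫
    (Scheme.Modules.pullbackCongr (IsIso.inv_hom_id π)).app F ≪≫
    (Scheme.Modules.pullbackId X).app F) ?_
  exact isReducedMod_pullback (inv π) _ (hF k) fun y _ ↦
    have : IsIso ((inv π).fiberToSpecResidueField y) :=
      inferInstanceAs (IsIso (pullback.snd _ _))
    isReduced_of_isOpenImmersion ((inv π).fiberToSpecResidueField y)

end Field

end Groth.Agent.AssSch.Reduced
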