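import Groth.Agent.AssSch.Basic
import Groth.Agent.PullStalk.Basic
import Groth.Agent.QCoh.FiniteType
import Mathlib.RingTheory.Ideal.AssociatedPrime.Finiteness
import Mathlib.RingTheory.Length

/-!
Associated points and stalk lengths of the restriction to an open subscheme; local finiteness of
the associated points of a coherent module.
-/

universe u

open CategoryTheory AlgebraicGeometry TopologicalSpace Opposite
open Groth.Agent.QCoh Groth.Agent.PullStalk.Sky Groth.Agent.AssSch.Stalk Groth.Agent.AssSch.Basic
open Groth.Agent.PullStalk.Basic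

noncomputable section

namespace Groth.Agent.AssSch.Restrict

variable {X Y : Scheme.{u}} (j : X ⟶ Y) [IsOpenImmersion j] (M : Y.Modules)

lemma bijective_unitStalkHom (x : X) : Function.Bijective (unitStalkHom j M x) := by
  let := (j.stalkMap x).hom.toAlgebra
  let := moduleOver j M x
  have : IsScalarTower (Y.presheaf.stalk (j x)) (X.presheaf.stalk x)
      (((Scheme.Modules.pullback j).obj M).presheaf.stalk x) :=
    IsScalarTower.of_algebraMap_smul fun _ _ ↦ rfl
  let σ := (asIso (j.stalkMap x)).commRingCatIsoToRingEquiv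
  let P := ((Scheme.Modules.pullback j).obj M).presheaf.stalk x
  have h := isBaseChange_unitStalk j M x
  let e := TensorProduct.congr
    (AlgEquiv.ofRingEquiv (R := Y.presheaf.stalk (j x)) (f := σ) (fun _ ↦ rfl)).toLinearEquiv
    (LinearEquiv.refl (Y.presheaf.stalk (j x)) (M.presheaf.stalk (j x)))
  have key : ∀ m : M.presheaf.stalk (j x),
      unitStalkHom j M x m = h.equiv (e ((TensorProduct.lid _ _).symm m)) := fun m ↦ by
    rw [TensorProduct.lid_symm_apply, TensorProduct.congr_tmul]
    change _ = h.equiv ((σ 1) ⊗ₜ _)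
    rw [map_one, IsBaseChange.equiv_tmul, one_smul]
    rfl
  rw [show (unitStalkHom j M x : _ → _) =
    fun m ↦ h.equiv (e ((TensorProduct.lid _ _).symm m)) from funext key]
  exact h.equiv.bijective.comp (e.bijective.comp (TensorProduct.lid _ _).symm.bijective)

/-- The stalk of the restriction, semilinearly. -/
def stalkEquivHom (x : X) :
    M.presheaf.stalk (j x) →ₛₗ[(j.stalkMap x).hom]
      ((Scheme.Modules.pullback j).obj M).presheaf.stalk x where
  toFun := unitStalkHom j M x
  map_add' := map_add (unitStalkHom j M x).hom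
  map_smul' := unitStalkHom_smul j M x

lemma length_stalk_eq (x : X) :
    Module.length (X.presheaf.stalk x) (((Scheme.Modules.pullback j).obj M).presheaf.stalk x) =
      Module.length (Y.presheaf.stalk (j x)) (M.presheaf.stalk (j x)) := by
  have : RingHomSurjective (j.stalkMap x).hom :=
    ⟨(ConcreteCategory.bijective_of_isIso (j.stalkMap x)).2⟩
  rw [Module.length, Module.length, WithBot.unbot_inj]
  exact (Order.krullDim_eq_of_orderIso (Submodule.orderIsoMapComapOfBijective (stalkEquivHom j M x)
    (bijective_unitStalkHom j M x))).symm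

/-- Associated points of the restriction. -/
lemma mem_ass_pullback_iff (x : X) :
    x ∈ _root_.AssSch.Ass ((Scheme.Modules.pullback j).obj M) ↔ j x ∈ _root_.AssSch.Ass M := by
  let σ := (asIso (j.stalkMap x)).commRingCatIsoToRingEquiv
  have hb := bijective_unitStalkHom j M x
  have hmax : (IsLocalRing.maximalIdeal (X.presheaf.stalk x)).comap σ.toRingHom =
      IsLocalRing.maximalIdeal (Y.presheaf.stalk (j x)) :=
    IsLocalRing.eq_maximalIdeal (Ideal.comap_isMaximal_of_surjective _ σ.surjective)
  have hcolon : ∀ m, ((⊥ : Submodule (X.presheaf.stalk x)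
      (((Scheme.Modules.pullback j).obj M).presheaf.stalk x)).colon {stalkEquivHom j M x m}).comap
      σ.toRingHom = (⊥ : Submodule (Y.presheaf.stalk (j x)) (M.presheaf.stalk (j x))).colon {m} := by
    intro m
    ext a
    rw [Ideal.mem_comap, Submodule.mem_colon_singleton, Submodule.mem_colon_singleton,
      Submodule.mem_bot, Submodule.mem_bot]
    change j.stalkMap x a • stalkEquivHom j M x m = 0 ↔ _
    rw [show j.stalkMap x a • stalkEquivHom j M x m = unitStalkHom j M x (a • m) from
      (unitStalkHom_smul j M x a m).symm]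
    exact ⟨fun h ↦ hb.1 (h.trans (map_zero _).symm), fun h ↦ by rw [h, map_zero]⟩
  change IsLocalRing.maximalIdeal _ ∈ associatedPrimes _ _ ↔
    IsLocalRing.maximalIdeal _ ∈ associatedPrimes _ _
  constructor
  · rintro ⟨-, m', hm'⟩
    obtain ⟨m, rfl⟩ := hb.2 m'
    refine ⟨(IsLocalRing.maximalIdeal.isMaximal _).isPrime, m, ?_⟩
    rw [← hmax, hm', Ideal.comap_radical, ← hcolon m]
    rfl
  · rintro ⟨-, m, hm⟩
    refine ⟨(IsLocalRing.maximalIdeal.isMaximal _).isPrime, stalkEquivHom j M x m, ?_⟩
    apply Ideal.comap_injective_of_surjective σ.toRingHom σ.surjective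
    rw [hmax, Ideal.comap_radical, hcolon, hm]

end Groth.Agent.AssSch.Restrict

namespace Groth.Agent.AssSch.Restrict

variable {X : Scheme.{u}} [IsLocallyNoetherian X]

/-- A coherent module has finitely many associated points on each affine open. -/
lemma finite_ass_inter (M : X.Modules) (hM : Coh.IsCoh M) {V : X.Opens} (hV : IsAffineOpen V) :
    (_root_.AssSch.Ass M ∩ (V : Set X)).Finite := by
  have : M.IsQuasicoherent := hM.1
  have : SheafOfModules.IsFiniteType.{u} M := hM.2
  have := finite_sections_of_isFiniteType M hV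
  have := isNoetherianRing_of_isAffineOpen hV
  classical
  refine Set.Finite.of_injOn (f := fun x ↦ if hx : x ∈ V then primeOf hV x hx else ⊥)
    (t := associatedPrimes Γ(X, V) Γ(M, V)) ?_ ?_ (associatedPrimes.finite _ _)
  · intro x hx
    simp only [dif_pos (show x ∈ V from hx.2)]
    exact (mem_ass_iff M hV x hx.2).mp hx.1
  · intro x hx y hy h
    simp only [dif_pos (show x ∈ V from hx.2), dif_pos (show y ∈ V from hy.2)] at h
    exact eq_of_primeOf_eq hV hx.2 hy.2 h

end Groth.Agent.AssSch.Restrict
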