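import Groth.Agent.RegLoc.AssTensor
import Groth.Agent.AssSch.Algebra
import Groth.Agent.AssSch.FlatAss
import Groth.Agent.KFlat.StalkTensor
import Groth.Agent.PullStalk.Basic
import Groth.Agent.FlatMor.FibreStalk
import Groth.Agent.CAlgA.FibreMod

/-!
Associated points of `f^*E ⊗ F` for `F` flat over the base, and of restrictions to fibres.
-/

universe u

open CategoryTheory AlgebraicGeometry TensorProduct IsLocalRing
open Groth.Agent.PullStalk.Sky Groth.Agent.PullStalk.Basic

noncomputable section

namespace Groth.Agent.AssSch.TensorFlat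

section Algebra

variable {A B : Type u} [CommRing A] [CommRing B] [Algebra A B]

/-- Associated maximal ideal of `N ⊗ M` for `N` flat over the base. -/
theorem mem_tensor_iff [IsLocalRing A] [IsLocalRing B] [IsNoetherianRing A]
    [IsLocalHom (algebraMap A B)] (N : Type u) [AddCommGroup N] [Module B N] [Module A N]
    [IsScalarTower A B N] [Module.Flat A N] (M : Type u) [AddCommGroup M] [Module A M] :
    maximalIdeal B ∈ associatedPrimes B (N ⊗[A] M) ↔
      maximalIdeal A ∈ associatedPrimes A M ∧ maximalIdeal B ∈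
        associatedPrimes B (N ⧸ (maximalIdeal A).map (algebraMap A B) • (⊤ : Submodule B N)) := by
  rw [Groth.Agent.RegLoc.AssTensor.associatedPrimes_tensor, Set.mem_iUnion₂]
  refine ⟨?_, fun h ↦ ⟨_, h.1, h.2⟩⟩
  rintro ⟨p, hp, hB⟩
  suffices p = maximalIdeal A by subst this; exact ⟨hp, hB⟩
  have := hp.1
  refine le_antisymm (le_maximalIdeal hp.1.ne_top) fun a ha ↦ by_contra fun hap ↦ ?_
  obtain ⟨hmp, x, hx⟩ := hB
  obtain ⟨n, rfl⟩ := Submodule.Quotient.mk_surjective _ x
  obtain ⟨k, hk⟩ : algebraMap A B a ∈ Ideal.radical ((⊥ : Submodule B _).colon {Submodule.Quotient.mk n}) :=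
    hx.le (map_nonunit (algebraMap A B) a ha)
  rw [Submodule.mem_colon_singleton, Submodule.mem_bot, ← Submodule.Quotient.mk_smul,
    Submodule.Quotient.mk_eq_zero, ← map_pow] at hk
  have hn := CAlgA.FibreMod.mem_pN_of_smul_mem (S := B) N p
    (fun h ↦ hap (hp.1.mem_of_pow_mem k h)) hk
  refine hmp.ne_top (hx.trans ?_)
  rw [(Submodule.Quotient.mk_eq_zero _).mpr hn, Ideal.eq_top_iff_one]
  exact Ideal.le_radical (by rw [Submodule.mem_colon_singleton, smul_zero]; exact zero_mem _)

/-- A base change along a surjection is the quotient by the kernel. -/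
def quotEquiv (hπ : Function.Surjective (algebraMap A B)) {M M' : Type u} [AddCommGroup M]
    [Module A M] [AddCommGroup M'] [Module A M'] [Module B M'] [IsScalarTower A B M']
    {f : M →ₗ[A] M'} (hf : IsBaseChange B f) :
    (M ⧸ RingHom.ker (algebraMap A B) • (⊤ : Submodule A M)) ≃ₗ[A] M' :=
  (quotTensorEquivQuotSMul M (RingHom.ker (algebraMap A B))).symm ≪≫ₗ
    TensorProduct.congr
      (((Algebra.linearMap A B).quotKerEquivOfSurjective hπ :
        (A ⧸ RingHom.ker (algebraMap A B)) ≃ₗ[A] B)) (LinearEquiv.refl A M) ≪≫ₗ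
    hf.equiv.restrictScalars A

/-- Associated maximal ideal along a surjection of local rings. -/
theorem mem_surjective_iff [IsLocalRing A] [IsLocalRing B]
    (hπ : Function.Surjective (algebraMap A B)) {M M' : Type u} [AddCommGroup M] [Module A M]
    [AddCommGroup M'] [Module A M'] [Module B M'] [IsScalarTower A B M'] {f : M →ₗ[A] M'}
    (hf : IsBaseChange B f) :
    maximalIdeal B ∈ associatedPrimes B M' ↔ maximalIdeal A ∈
      associatedPrimes A (M ⧸ RingHom.ker (algebraMap A B) • (⊤ : Submodule A M)) := by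
  let I := RingHom.ker (algebraMap A B)
  let e : (M ⧸ I • (⊤ : Submodule A M)) ≃ₗ[A] M' := quotEquiv hπ hf
  have : IsLocalHom (algebraMap A B) := hπ.isLocalHom
  have hmax : (maximalIdeal B).comap (algebraMap A B) = maximalIdeal A := maximalIdeal_comap _
  have hcol : ∀ m : M ⧸ I • (⊤ : Submodule A M), (⊥ : Submodule A _).colon {m} =
      ((⊥ : Submodule B M').colon {e m}).comap (algebraMap A B) := fun m ↦ by
    ext a
    rw [Ideal.mem_comap, Submodule.mem_colon_singleton, Submodule.mem_bot,
      Submodule.mem_colon_singleton, Submodule.mem_bot, algebraMap_smul, ← map_smul, e.map_eq_zero_iff]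
  constructor
  · rintro ⟨-, m', hm'⟩
    obtain ⟨m, rfl⟩ := e.surjective m'
    exact ⟨(maximalIdeal.isMaximal A).isPrime, m, by
      rw [← hmax, hm', Ideal.comap_radical, hcol]⟩
  · rintro ⟨-, m, hm⟩
    refine ⟨(maximalIdeal.isMaximal B).isPrime, e m, Ideal.comap_injective_of_surjective _ hπ ?_⟩
    rw [hmax, Ideal.comap_radical, ← hcol, hm]

end Algebra

variable {X Y : Scheme.{u}}

/-- The closed fibre of the stalk at `x` has `x` as an associated point. -/
def FibreAss (f : X ⟶ Y) (F : X.Modules) (x : X) : Prop :=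
  maximalIdeal (X.presheaf.stalk x) ∈ associatedPrimes (X.presheaf.stalk x)
    (F.presheaf.stalk x ⧸ (maximalIdeal (Y.presheaf.stalk (f x))).map (f.stalkMap x).hom •
      (⊤ : Submodule (X.presheaf.stalk x) (F.presheaf.stalk x)))

/-- The stalk of `f^*E ⊗ F`. -/
def tensorStalkEquiv (f : X ⟶ Y) (E : Y.Modules) (F : X.Modules) (x : X) :
    letI := (f.stalkMap x).hom.toAlgebra
    letI := FlatMod.moduleStalkOver f F x
    haveI : IsScalarTower (Y.presheaf.stalk (f x)) (X.presheaf.stalk x) (F.presheaf.stalk x) :=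
      IsScalarTower.of_algebraMap_smul fun _ _ ↦ rfl
    (KFlat.StalkTensor.tensM ((Scheme.Modules.pullback f).obj E) F).presheaf.stalk x
      ≃ₗ[X.presheaf.stalk x] F.presheaf.stalk x ⊗[Y.presheaf.stalk (f x)] E.presheaf.stalk (f x) :=
  letI := (f.stalkMap x).hom.toAlgebra
  letI := FlatMod.moduleStalkOver f F x
  letI := moduleOver f E x
  haveI : IsScalarTower (Y.presheaf.stalk (f x)) (X.presheaf.stalk x) (F.presheaf.stalk x) :=
    IsScalarTower.of_algebraMap_smul fun _ _ ↦ rfl
  haveI : IsScalarTower (Y.presheaf.stalk (f x)) (X.presheaf.stalk x)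
      (((Scheme.Modules.pullback f).obj E).presheaf.stalk x) :=
    IsScalarTower.of_algebraMap_smul fun _ _ ↦ rfl
  KFlat.StalkTensor.stalkTensorEquiv _ _ x ≪≫ₗ TensorProduct.comm _ _ _ ≪≫ₗ
      (TensorProduct.congr (LinearEquiv.refl _ _) (isBaseChange_unitStalk f E x).equiv.symm) ≪≫ₗ
      (AlgebraTensorModule.cancelBaseChange (Y.presheaf.stalk (f x)) (X.presheaf.stalk x)
        (X.presheaf.stalk x) (F.presheaf.stalk x) (E.presheaf.stalk (f x)))

/-- Associated points of `f^*E ⊗ F`. -/
theorem mem_ass_pullback_tensor_iff (f : X ⟶ Y) [IsLocallyNoetherian Y] (E : Y.Modules)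
    (F : X.Modules) (x : X) (hflat : FlatMod.IsFlatOverAt f F x) :
    x ∈ _root_.AssSch.Ass (CohB1.tensorMod ((Scheme.Modules.pullback f).obj E) F) ↔
      f x ∈ _root_.AssSch.Ass E ∧ FibreAss f F x := by
  let := (f.stalkMap x).hom.toAlgebra
  let := FlatMod.moduleStalkOver f F x
  let := moduleOver f E x
  have : IsScalarTower (Y.presheaf.stalk (f x)) (X.presheaf.stalk x) (F.presheaf.stalk x) :=
    IsScalarTower.of_algebraMap_smul fun _ _ ↦ rfl
  have : IsScalarTower (Y.presheaf.stalk (f x)) (X.presheaf.stalk x)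
      (((Scheme.Modules.pullback f).obj E).presheaf.stalk x) :=
    IsScalarTower.of_algebraMap_smul fun _ _ ↦ rfl
  have : Module.Flat (Y.presheaf.stalk (f x)) (F.presheaf.stalk x) := hflat
  have : IsLocalHom (algebraMap (Y.presheaf.stalk (f x)) (X.presheaf.stalk x)) :=
    f.toLRSHom.prop x
  have e := tensorStalkEquiv f E F x
  change maximalIdeal (X.presheaf.stalk x) ∈ associatedPrimes (X.presheaf.stalk x)
    ((KFlat.StalkTensor.tensM ((Scheme.Modules.pullback f).obj E) F).presheaf.stalk x) ↔ _
  rw [LinearEquiv.AssociatedPrimes.eq e]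
  exact mem_tensor_iff _ _

/-- Associated points of a module flat over the base. -/
theorem mem_ass_iff_fibreAss (f : X ⟶ Y) [IsLocallyNoetherian Y] (F : X.Modules) (x : X)
    (hflat : FlatMod.IsFlatOverAt f F x) :
    x ∈ _root_.AssSch.Ass F ↔
      f x ∈ _root_.AssSch.Ass (Coh.structureModule Y) ∧ FibreAss f F x := by
  let := (f.stalkMap x).hom.toAlgebra
  let := FlatMod.moduleStalkOver f F x
  have : IsScalarTower (Y.presheaf.stalk (f x)) (X.presheaf.stalk x) (F.presheaf.stalk x) :=
    IsScalarTower.of_algebraMap_smul fun _ _ ↦ rfl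
  have : Module.Flat (Y.presheaf.stalk (f x)) (F.presheaf.stalk x) := hflat
  have : IsLocalHom (algebraMap (Y.presheaf.stalk (f x)) (X.presheaf.stalk x)) :=
    f.toLRSHom.prop x
  rw [FlatAss.mem_ass_structure_iff]
  change maximalIdeal (X.presheaf.stalk x) ∈ associatedPrimes (X.presheaf.stalk x)
    (F.presheaf.stalk x) ↔ _
  rw [← LinearEquiv.AssociatedPrimes.eq (AlgebraTensorModule.rid (Y.presheaf.stalk (f x))
    (X.presheaf.stalk x) (F.presheaf.stalk x))]
  exact mem_tensor_iff _ _

/-- Associated points of a restriction along a morphism surjective on stalks. -/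
theorem mem_ass_pullback_iff_of_surjective (j : X ⟶ Y) (M : Y.Modules) (x : X)
    (hj : Function.Surjective (j.stalkMap x)) :
    x ∈ _root_.AssSch.Ass ((Scheme.Modules.pullback j).obj M) ↔
      maximalIdeal (Y.presheaf.stalk (j x)) ∈ associatedPrimes (Y.presheaf.stalk (j x))
        (M.presheaf.stalk (j x) ⧸ RingHom.ker (j.stalkMap x).hom •
          (⊤ : Submodule (Y.presheaf.stalk (j x)) (M.presheaf.stalk (j x)))) := by
  let := (j.stalkMap x).hom.toAlgebra
  let := moduleOver j M x
  have : IsScalarTower (Y.presheaf.stalk (j x)) (X.presheaf.stalk x)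
      (((Scheme.Modules.pullback j).obj M).presheaf.stalk x) :=
    IsScalarTower.of_algebraMap_smul fun _ _ ↦ rfl
  exact mem_surjective_iff hj (isBaseChange_unitStalk j M x)

/-- Associated points of the restriction to a fibre. -/
theorem mem_ass_fibre_iff (f : X ⟶ Y) (F : X.Modules) (s : Y) (x : f.fiber s) :
    x ∈ _root_.AssSch.Ass ((Scheme.Modules.pullback (f.fiberι s)).obj F) ↔
      FibreAss f F (f.fiberι s x) := by
  rw [mem_ass_pullback_iff_of_surjective _ _ _ ((f.fiberι s).stalkMap_surjective x),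
    FlatMor.FibreStalk.ker_stalkMap_fiberι]
  rfl

end Groth.Agent.AssSch.TensorFlat
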